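import Cfsg.Agent.Lib.Sporadic.M23Cocode

/-!
The two eleven-dimensional modules of the Mathieu group of degree 23 in coordinates.
-/

set_option autoImplicit false

namespace CfsgLib.Sporadic.M23Ext

open CfsgLib.Sporadic.M23Cocode

/-- The code module. -/
def codeR (g : G23) (v : V) : V := Q g⁻¹ v

/-- The cocode module, as the dual of the code module. -/
def cocodeR (g : G23) (f : V) : V := fun k => ∑ i, f i * Q g (Pi.single k 1) i

end CfsgLib.Sporadic.M23Ext
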