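import Cfsg.Agent.Lib.Sporadic.M23Ext.Table

/-!
Checking a certificate for the restriction of extensions to a Sylow 2-subgroup.
-/

set_option autoImplicit false

namespace CfsgLib.Sporadic.M23Ext

open CfsgLib.Sporadic.M23Cocode (G23)

/-- A fusion: an element with words for generators of a subgroup and of its conjugate. -/
structure Fus where
  /-- The element. -/
  g : G23
  /-- Its matrix. -/
  mg : List ℕ
  /-- The number of generators. -/
  n : ℕ
  /-- Words for the generators. -/
  us : Fin n → List (Fin 3)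
  /-- Words for the conjugates. -/
  vs : Fin n → List (Fin 3)
  /-- Pairs of equal products. -/
  rels : List (List (Fin n) × List (Fin n))

/-- A certificate. -/
structure Cert where
  /-- Matrices of the generators. -/
  ms : Fin 3 → List ℕ
  /-- The number of unknown bits. -/
  nv : ℕ
  /-- The free edges. -/
  base : List (ℕ × Fin 3)
  /-- Removal of the first letter. -/
  pre : List ℕ
  /-- The table as linear forms. -/
  tbl : List (List Sym)
  /-- Fusions. -/
  fus : List Fus
  /-- Edges giving equivariance equations. -/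
  cons : List (Fin 3 × ℕ × Fin 3 × ℕ)
  /-- The equations. -/
  eqs : List ℕ
  /-- The change of lifts. -/
  lam : List Sym
  /-- The form giving the remaining class. -/
  fv : ℕ
  /-- The remaining class. -/
  extra : ℕ
  /-- The combinations. -/
  K : List ℕ

variable (D : Cert)

/-- A table entry. -/
def Cert.ent (a : ℕ) (j : Fin 3) : Sym := (D.tbl.getD a []).getD j []

/-- The predecessor. -/
def Cert.pr (a : ℕ) : ℕ := D.pre.getD a 0

/-- Whether an edge is in the tree. -/
def isTree (a : ℕ) (j : Fin 3) : Bool := decide (wd (nx a j) = wd a ++ [j])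

/-- The recursion for an edge. -/
def Cert.recOK (a : ℕ) (j : Fin 3) : Bool :=
  match wd a with
  | [] => false
  | s :: rest =>
    decide (D.pr a < 128 ∧ wd (D.pr a) = rest) &&
    decide (endN 0 (s :: wd (nx (D.pr a) j)) = nx a j) &&
    ((D.pr a, j) :: pathEdges 0 (s :: wd (nx (D.pr a) j))).all
      (fun p => decide (p.1 < 128) && (isTree p.1 p.2 || decide (3 * p.1 + p.2.val < 3 * a + j.val))) &&
    decide (D.ent a j = symX (applyM (D.ms s) (D.ent (D.pr a) j))
      (walkS D.ent 0 (s :: wd (nx (D.pr a) j))))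

/-- The check of an edge. -/
def Cert.edgeOK (a : ℕ) (j : Fin 3) : Bool :=
  if isTree a j then decide (∀ k : Fin 11, (D.ent a j).getD k 0 = 0)
  else (decide (D.base.idxOf (a, j) < D.base.length) && decide (D.ent a j = unitS (D.base.idxOf (a, j)))) || D.recOK a j

/-- The eleven forms of a symbolic vector. -/
def coordsS (s : Sym) : List ℕ := (List.range 11).map fun k => s.getD k 0

/-- An equivariance equation. -/
def Cert.consEq (q : Fin 3 × ℕ × Fin 3 × ℕ) : ℕ :=
  (symX (symX (walkS D.ent 0 (q.1 :: (wd q.2.1 ++ [q.2.2.1]))) (walkS D.ent 0 (q.1 :: wd (nx q.2.1 q.2.2.1))))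
    (applyM (D.ms q.1) (D.ent q.2.1 q.2.2.1))).getD q.2.2.2 0

/-- A fusion equation. -/
def Cert.fusSym (f : Fus) (o : ℕ) (r : List (Fin f.n) × List (Fin f.n)) : Sym :=
  symX
    (symX (applyM f.mg (symX (walkS D.ent 0 (r.1.flatMap f.us)) (walkS D.ent 0 (r.2.flatMap f.us))))
      (symX (walkS D.ent 0 (r.1.flatMap f.vs)) (walkS D.ent 0 (r.2.flatMap f.vs))))
    (symX (derS D.ms (r.1.map fun x : Fin f.n => (unitS (o + x.val), f.vs x)))
      (derS D.ms (r.2.map fun x : Fin f.n => (unitS (o + x.val), f.vs x))))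

/-- All fusion equations. -/
def Cert.fusEqs : ℕ → List Fus → List ℕ
  | _, [] => []
  | o, f :: l => f.rels.flatMap (fun r => coordsS (D.fusSym f o r)) ++ Cert.fusEqs (o + f.n) l

/-- The check of a fusion. -/
def fusOK (f : Fus) : Bool :=
  decide (∀ x, f.g * prodS (f.us x) = prodS (f.vs x) * f.g) &&
  f.rels.all fun r => decide (endN 0 (r.1.flatMap f.us) = endN 0 (r.2.flatMap f.us)) &&
    decide (endN 0 (r.1.flatMap f.vs) = endN 0 (r.2.flatMap f.vs))

/-- The check of a gauge row. -/
def Cert.rowOK (i : ℕ) : Bool :=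
  let e := D.base.getD i (0, 0)
  let d1 := derS D.ms ((wd e.1 ++ [e.2]).map fun l : Fin 3 => (D.lam.getD l.val [], [l]))
  let d2 := derS D.ms ((wd (nx e.1 e.2)).map fun l : Fin 3 => (D.lam.getD l.val [], [l]))
  (List.range 11).all fun k =>
    (2 ^ (11 * i + k) ^^^ d1.getD k 0 ^^^ d2.getD k 0 ^^^ (if D.extra.testBit (11 * i + k) then D.fv else 0)) ==
      xorSel (D.K.getD (11 * i + k) 0) D.eqs

/-- All checks not depending on the module. -/
structure Cert.OK : Prop where
  edge : ∀ a < 128, ∀ j, D.edgeOK a j = true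
  fus_ok : ∀ f ∈ D.fus, fusOK f = true
  size : 11 * (D.base.length + (D.fus.map Fus.n).sum) ≤ D.nv
  base_lt : ∀ e ∈ D.base, e.1 < 128
  cons_ok : ∀ q ∈ D.cons, q.2.1 < 128 ∧ q.2.2.2 < 11 ∧
    endN 0 (q.1 :: (wd q.2.1 ++ [q.2.2.1])) = endN 0 (q.1 :: wd (nx q.2.1 q.2.2.1))
  eqs_eq : D.eqs = D.cons.map D.consEq ++ D.fusEqs D.base.length D.fus
  rows : ∀ i < D.base.length, D.rowOK i = true

/-- The checks depending on the module. -/
structure Cert.ActOK (R : G23 → Vec → Vec) : Prop where
  gens : ∀ (l : Fin 3) (i r : Fin 11), R (gS l) (Pi.single i 1) r = mfun (D.ms l) (Pi.single i 1) r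
  fus_act : ∀ f ∈ D.fus, ∀ i r : Fin 11, R f.g (Pi.single i 1) r = mfun f.mg (Pi.single i 1) r

/-- The shape of the remaining class. -/
def Cert.shape (a : ℕ) (j : Fin 3) : Vec :=
  evS D.nv (D.ent a j) fun i => if D.extra.testBit i then 1 else 0

theorem pathEdges_lt : ∀ (w : List (Fin 3)) (a : ℕ), a < 128 → ∀ p ∈ pathEdges a w, p.1 < 128
  | [], _, _, p, hp => absurd hp List.not_mem_nil
  | l :: w, a, ha, p, hp => by
    rcases List.mem_cons.1 hp with rfl | h
    · exact ha
    · exact pathEdges_lt w _ (nodes_step a ha l).1 p h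

variable {R : G23 → Vec → Vec} {E : Type*} [Group E] (X : ModExt R E)

theorem table_eval (hok : D.OK) (hact : D.ActOK R) {ℓ : Fin 3 → E} (hℓ : ∀ j, X.π (ℓ j) = gS j) (t : ℕ → ZMod 2)
    (hbase : ∀ i < D.base.length, (fun k : Fin 11 => t (11 * i + k)) =
      X.T ℓ (D.base.getD i (0, 0)).1 (D.base.getD i (0, 0)).2) :
    ∀ a < 128, ∀ j, evS D.nv (D.ent a j) t = X.T ℓ a j := by
  suffices H : ∀ e : ℕ, ∀ a < 128, ∀ j : Fin 3, 3 * a + j.val = e → evS D.nv (D.ent a j) t = X.T ℓ a j from
    fun a ha j => H _ a ha j rfl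
  intro e
  induction e using Nat.strong_induction_on with
  | _ e ih =>
    intro a ha j he
    have h := hok.edge a ha j
    unfold Cert.edgeOK at h
    split_ifs at h with ht
    · rw [X.T_tree hℓ ha (of_decide_eq_true ht)]
      funext k
      show pair D.nv ((D.ent a j).getD k 0) t = 0
      rw [of_decide_eq_true h k, pair_zero]
    · rw [Bool.or_eq_true, Bool.and_eq_true] at h
      rcases h with ⟨h1, h2⟩ | h
      · have hlt := of_decide_eq_true h1
        have hsz := hok.size
        rw [of_decide_eq_true h2, evS_unitS (by omega), hbase _ hlt]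
        rw [List.getD_eq_getElem _ _ hlt, List.getElem_idxOf hlt]
      · unfold Cert.recOK at h
        split at h
        · exact absurd h Bool.false_ne_true
        · rename_i s rest hw
          simp only [Bool.and_eq_true, decide_eq_true_eq, List.all_eq_true, Bool.or_eq_true] at h
          obtain ⟨⟨⟨⟨hp, hpw⟩, hend⟩, hrefs⟩, hent⟩ := h
          rw [← hpw] at hw
          have href : ∀ p ∈ (D.pr a, j) :: pathEdges 0 (s :: wd (nx (D.pr a) j)),
              evS D.nv (D.ent p.1 p.2) t = X.T ℓ p.1 p.2 := by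
            intro p hp'
            obtain ⟨hp1, hp2⟩ := hrefs p hp'
            rcases hp2 with htree | hlt
            · have h' := hok.edge p.1 hp1 p.2
              unfold Cert.edgeOK at h'
              rw [if_pos htree] at h'
              rw [X.T_tree hℓ hp1 (of_decide_eq_true htree)]
              funext k
              show pair D.nv ((D.ent p.1 p.2).getD k 0) t = 0
              rw [of_decide_eq_true h' k, pair_zero]
            · exact ih _ (he ▸ hlt) p.1 hp1 p.2 rfl
          rw [hent, evS_symX, evS_applyM, href _ List.mem_cons_self,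
            evS_walkS (X.T ℓ) D.ent _ _ fun a' l hm => href (a', l) (List.mem_cons_of_mem _ hm),
            X.T_rec hℓ ha hp hw hend]
          rw [X.R_eq_mfun (gS s) (D.ms s) (hact.gens s)]

theorem fus_zero (hok : D.OK) (hact : D.ActOK R) {ℓ : Fin 3 → E} (hℓ : ∀ j, X.π (ℓ j) = gS j) (t : ℕ → ZMod 2)
    (htab : ∀ a < 128, ∀ j, evS D.nv (D.ent a j) t = X.T ℓ a j) (τ : (f : Fus) → Fin f.n → Vec)
    (hτ : ∀ f ∈ D.fus, ∃ e, X.π e = f.g ∧
      ∀ x, e * evw ℓ (f.us x) * e⁻¹ = X.ι (τ f x) * evw ℓ (f.vs x)) :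
    ∀ (l : List Fus) (o : ℕ), (∀ f ∈ l, f ∈ D.fus) → 11 * (o + (l.map Fus.n).sum) ≤ D.nv →
      (∀ i < (l.flatMap fun f => List.ofFn (τ f)).length,
        (fun k : Fin 11 => t (11 * (o + i) + k)) = (l.flatMap fun f => List.ofFn (τ f)).getD i 0) →
      ∀ q ∈ D.fusEqs o l, pair D.nv q t = 0
  | [], _, _, _, _, q, hq => absurd hq List.not_mem_nil
  | f :: l, o, hl, hsz, ht, q, hq => by
    rw [List.map_cons, List.sum_cons] at hsz
    rw [List.flatMap_cons] at ht
    rcases List.mem_append.1 hq with hq | hq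
    · obtain ⟨r, hr, hq⟩ := List.mem_flatMap.1 hq
      obtain ⟨k, hk, rfl⟩ := List.mem_map.1 hq
      have hk' : k < 11 := List.mem_range.1 hk
      have hfok := hok.fus_ok f (hl f List.mem_cons_self)
      simp only [fusOK, Bool.and_eq_true, decide_eq_true_eq, List.all_eq_true] at hfok
      obtain ⟨hU, hW⟩ := hfok.2 r hr
      obtain ⟨e, heg, he⟩ := hτ f (hl f List.mem_cons_self)
      have hunit : ∀ x : Fin f.n, evS D.nv (unitS (o + x.val)) t = τ f x := fun x => by
        have := x.2
        rw [evS_unitS (by omega), ht x (by simp; omega)]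
        rw [List.getD_append _ _ _ _ (by simp), List.getD_eq_getElem _ _ (by simp), List.getElem_ofFn]
      have hwalk : ∀ w, evS D.nv (walkS D.ent 0 w) t = walkV (X.T ℓ) 0 w := fun w =>
        evS_walkS _ _ w 0 fun a l hm => htab a (pathEdges_lt w 0 (by norm_num) _ hm) l
      have hA : ∀ (l : Fin 3) v, R (gS l) v = mfun (D.ms l) v := fun l =>
        X.R_eq_mfun (gS l) (D.ms l) (hact.gens l)
      have key : evS D.nv (D.fusSym f o r) t = 0 := by
        simp only [Cert.fusSym, evS_symX, evS_applyM, hwalk, evS_derS (A := fun l => R (gS l)) hA, List.map_map,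
          Function.comp_def, hunit]
        rw [← X.R_eq_mfun f.g f.mg (hact.fus_act f (hl f List.mem_cons_self)), ← heg]
        exact X.T_fusion hℓ e f.us f.vs (τ f) he r.1 r.2 hU hW
      exact congrFun key ⟨k, hk'⟩
    · refine fus_zero hok hact hℓ t htab τ hτ l (o + f.n) (fun g hg => hl g (List.mem_cons_of_mem _ hg)) (by omega)
        (fun i hi => ?_) q hq
      rw [show o + f.n + i = o + (f.n + i) by omega, ht (f.n + i) (by simp at hi ⊢; omega)]
      rw [List.getD_append_right _ _ _ _ (by simp), List.length_ofFn, Nat.add_sub_cancel_left]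

/-- Some system of lifts has a multiple of the remaining class as its table. -/
theorem exists_normal (hok : D.OK) (hact : D.ActOK R) :
    ∃ ℓ : Fin 3 → E, (∀ j, X.π (ℓ j) = gS j) ∧
      ∃ c : ZMod 2, ∀ a < 128, ∀ j, X.T ℓ a j = fun k => c * D.shape a j k := by
  classical
  choose ℓ hℓ using fun j => X.surj (gS j)
  choose e₀ he₀ using fun f : Fus => X.surj f.g
  let τ : (f : Fus) → Fin f.n → Vec := fun f x => X.co (e₀ f * evw ℓ (f.us x) * (e₀ f)⁻¹ * (evw ℓ (f.vs x))⁻¹)
  have hτ : ∀ f ∈ D.fus, ∃ e, X.π e = f.g ∧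
      ∀ x, e * evw ℓ (f.us x) * e⁻¹ = X.ι (τ f x) * evw ℓ (f.vs x) := fun f hf => ⟨e₀ f, he₀ f, fun x => by
    rw [X.ι_co, inv_mul_cancel_right]
    have hfok := hok.fus_ok f hf
    simp only [fusOK, Bool.and_eq_true, decide_eq_true_eq] at hfok
    rw [map_mul, map_mul, map_mul, map_inv, map_inv, he₀, X.π_evw hℓ, X.π_evw hℓ, hfok.1 x]
    group⟩
  let vars : List Vec := D.base.map (fun e => X.T ℓ e.1 e.2) ++ D.fus.flatMap fun f => List.ofFn (τ f)
  let t : ℕ → ZMod 2 := fun i => vars.getD (i / 11) 0 ⟨i % 11, Nat.mod_lt _ (by norm_num)⟩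
  have ht : ∀ i, (fun k : Fin 11 => t (11 * i + k)) = vars.getD i 0 := fun i => funext fun k => by
    have := k.2
    simp only [t]
    have h1 : (11 * i + k.val) / 11 = i := by omega
    have h2 : (⟨(11 * i + k.val) % 11, Nat.mod_lt _ (by norm_num)⟩ : Fin 11) = k := Fin.ext (show (11 * i + k.val) % 11 = k.val by omega)
    rw [h1, h2]
  have hlen : (D.fus.flatMap fun f => List.ofFn (τ f)).length = (D.fus.map Fus.n).sum := by
    simp [List.length_flatMap]
  have htab := table_eval D X hok hact hℓ t fun i hi => by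
    rw [ht, List.getD_append _ _ _ _ (by simpa using hi), List.getD_eq_getElem _ _ (by simpa using hi),
      List.getElem_map, List.getD_eq_getElem _ _ hi]
  have hA : ∀ (l : Fin 3) v, R (gS l) v = mfun (D.ms l) v := fun l =>
    X.R_eq_mfun (gS l) (D.ms l) (hact.gens l)
  have hwalk : ∀ w, evS D.nv (walkS D.ent 0 w) t = walkV (X.T ℓ) 0 w := fun w =>
    evS_walkS _ _ w 0 fun a l hm => htab a (pathEdges_lt w 0 (by norm_num) _ hm) l
  have hzero : ∀ q ∈ D.eqs, pair D.nv q t = 0 := by
    intro q hq
    rw [hok.eqs_eq] at hq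
    rcases List.mem_append.1 hq with hq | hq
    · obtain ⟨⟨s, a, j, k⟩, hm, rfl⟩ := List.mem_map.1 hq
      obtain ⟨ha, hk, he⟩ := hok.cons_ok _ hm
      have key : evS D.nv (symX (symX (walkS D.ent 0 (s :: (wd a ++ [j]))) (walkS D.ent 0 (s :: wd (nx a j))))
          (applyM (D.ms s) (D.ent a j))) t = 0 := by
        rw [evS_symX, evS_symX, evS_applyM, hwalk, hwalk, htab a ha j, ← hA]
        exact X.T_equivariant hℓ ha s j he
      exact congrFun key ⟨k, hk⟩
    · refine fus_zero D X hok hact hℓ t htab τ hτ D.fus D.base.length (fun f hf => hf) hok.size (fun i hi => ?_) q hq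
      rw [ht, List.getD_append_right _ _ _ _ (by simp), List.length_map, Nat.add_sub_cancel_left]
  let lam : Fin 3 → Vec := fun l => evS D.nv (D.lam.getD l.val []) t
  let c : ZMod 2 := pair D.nv D.fv t
  let ℓ' : Fin 3 → E := fun l => X.ι (lam l) * ℓ l
  have hℓ' : ∀ j, X.π (ℓ' j) = gS j := fun j => by simp [ℓ', map_mul, X.π_ι, hℓ]
  let t' : ℕ → ZMod 2 := fun i => c * if D.extra.testBit i then 1 else 0
  have hbase : ∀ i < D.base.length, (fun k : Fin 11 => t' (11 * i + k)) =
      X.T ℓ' (D.base.getD i (0, 0)).1 (D.base.getD i (0, 0)).2 := by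
    intro i hi
    have hrow := hok.rows i hi
    have hmem : D.base.getD i (0, 0) ∈ D.base := by
      rw [List.getD_eq_getElem _ _ hi]; exact List.getElem_mem hi
    have ha := hok.base_lt _ hmem
    have hsz := hok.size
    funext k
    have hk := k.2
    simp only [Cert.rowOK, List.all_eq_true, beq_iff_eq] at hrow
    have h1 := congrArg (fun m => pair D.nv m t) (hrow k (List.mem_range.2 hk))
    simp only [pair_xor, pair_xorSel D.nv t D.eqs hzero] at h1
    rw [X.T_change hℓ lam ha]
    have hd : ∀ w : List (Fin 3), derV (fun l => R (gS l)) (w.map fun l => (lam l, [l])) k =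
        pair D.nv ((derS D.ms (w.map fun l : Fin 3 => (D.lam.getD l.val [], [l]))).getD k 0) t := fun w => by
      show _ = evS D.nv (derS D.ms (w.map fun l : Fin 3 => (D.lam.getD l.val [], [l]))) t k
      rw [evS_derS (A := fun l => R (gS l)) hA, List.map_map]
      rfl
    simp only [Pi.add_apply, hd]
    rw [pair_two_pow (by omega)] at h1
    have h2 : t (11 * i + k) = X.T ℓ (D.base.getD i (0, 0)).1 (D.base.getD i (0, 0)).2 k := by
      have := congrFun (ht i) k
      rw [this, List.getD_append _ _ _ _ (by simpa using hi), List.getD_eq_getElem _ _ (by simpa using hi),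
        List.getElem_map, List.getD_eq_getElem _ _ hi]
    rw [← h2]
    simp only [t', c]
    split_ifs at h1 ⊢ with hb
    · revert h1
      generalize t (11 * i + k) = x1
      generalize pair D.nv ((derS D.ms ((wd _ ++ _).map _)).getD k 0) t = x2
      generalize pair D.nv ((derS D.ms ((wd _).map _)).getD k 0) t = x3
      generalize pair D.nv D.fv t = x4
      revert x1 x2 x3 x4
      decide
    · rw [pair_zero] at h1
      revert h1
      generalize t (11 * i + k) = x1
      generalize pair D.nv ((derS D.ms ((wd _ ++ _).map _)).getD k 0) t = x2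
      generalize pair D.nv ((derS D.ms ((wd _).map _)).getD k 0) t = x3
      generalize pair D.nv D.fv t = x4
      revert x1 x2 x3 x4
      decide
  refine ⟨ℓ', hℓ', c, fun a ha j => ?_⟩
  rw [← table_eval D X hok hact hℓ' t' hbase a ha j]
  funext k
  exact pair_smul _ _ _ _

end CfsgLib.Sporadic.M23Ext
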