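import Cfsg.Agent.Lib.Sporadic.M23Ext.Sym
import Cfsg.Agent.Lib.Sporadic.M23Ext.Actions

/-!
The cocode as the dual of the code module.
-/

set_option autoImplicit false

namespace CfsgLib.Sporadic.M23Ext

open Cfsg CfsgLib.SmallGroups.Golay CfsgLib.Sporadic.M23Cocode

/-- A word inducing a given functional. -/
def sec (v : Vec) : GolayPt → ZMod 2 := ∑ k : Fin 11, Pi.single (pt (k + 1)) (v k)

theorem sec_add (a b : Vec) : sec (a + b) = sec a + sec b := by
  simp [sec, Pi.single_add, Finset.sum_add_distrib]

theorem lam_sec_apply (v x : Vec) : lam (sec v) x = ∑ k : Fin 11, v k * x k := by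
  have hx : ∀ k : Fin 11, iota x (pt (k + 1)) = x k := fun k => congrFun (res_iota x) k
  simp only [lam, sec, Finset.sum_apply, Finset.sum_mul]
  rw [Finset.sum_comm]
  refine Finset.sum_congr rfl fun k _ => ?_
  rw [Finset.sum_eq_single (pt (k + 1))]
  · rw [Pi.single_eq_same, hx]
  · intro p _ hp
    rw [Pi.single_eq_of_ne hp, zero_mul]
  · simp

theorem lam_sec (v : Vec) (k : Fin 11) : lam (sec v) (Pi.single k 1) = v k := by
  simp [lam_sec_apply, Pi.single_apply]

theorem lam_ext {w w' : GolayPt → ZMod 2}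
    (h : ∀ k : Fin 11, lam w (Pi.single k 1) = lam w' (Pi.single k 1)) : lam w = lam w' := by
  funext x
  have h2 : ∀ a b : ZMod 2, a + b = 0 → a = b := by decide
  refine h2 _ _ (eq_zero_of_single (f := fun x => lam w x + lam w' x) (fun a b => ?_) (fun k => ?_) x)
  · simp only [lam, map_add, Pi.add_apply, mul_add, Finset.sum_add_distrib]
    ring
  · rw [h k]
    generalize lam w' (Pi.single k 1) = u
    revert u; decide

theorem lam_comp (g : G23) (v : Vec) (k : Fin 11) :
    lam (sec v ∘ ⇑(g : Equiv.Perm GolayPt)⁻¹) (Pi.single k 1) = cocodeR g v k := by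
  rw [cocodeR, ← lam_sec_apply]
  simp only [lam, Function.comp_apply, iota_Q]
  conv_lhs => rw [← Equiv.sum_comp (g : Equiv.Perm GolayPt)]
  simp

theorem add_self_vec' {α : Type*} (f : α → ZMod 2) : f + f = 0 := funext fun a => by
  show f a + f a = 0
  generalize f a = u
  revert u; decide

end CfsgLib.Sporadic.M23Ext
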