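import Cfsg.Agent.Lib.Sporadic.M23Ext.Unique
import Cfsg.Agent.Lib.Sporadic.M23Ext.CocodeCert
import Cfsg.Agent.Lib.Sporadic.M23Ext.Dual

/-!
Extensions of the Mathieu group of degree 23 by its cocode module.
-/

set_option autoImplicit false

namespace CfsgLib.Sporadic.M23Ext

open Cfsg CfsgLib.Sporadic.M23Cocode

theorem exists_modExt {D : Type*} [Group D] (M : Subgroup D) [hM : M.Normal] (f : D ⧸ M ≃* ↥Cfsg.Spor.M23)
    (g : (Cfsg.GolayPt → ZMod 2) →+ Additive ↥M) (gsurj : Function.Surjective g)
    (gker : ∀ w, g w = 0 ↔ (w ∈ Cfsg.golayCode ∨ w + Pi.single none 1 ∈ Cfsg.golayCode))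
    (gconj : ∀ (x : D) (w : Cfsg.GolayPt → ZMod 2),
      ((g (w ∘ ⇑(((f (QuotientGroup.mk x) : ↥Cfsg.Spor.M23) : Equiv.Perm Cfsg.GolayPt)⁻¹))).toMul : D)
        = x * ((g w).toMul : D) * x⁻¹) :
    ∃ X : ModExt cocodeR D, X.π.ker = M := by
  have hlam : ∀ w w', lam w = lam w' → g w = g w' := fun w w' h => by
    have h0 : lam (w + w') = 0 := by
      rw [lam_add, h]
      exact add_self_vec' _
    have h1 := (gker _).2 ((lam_eq_zero _).1 h0)
    rw [map_add] at h1
    have h2 : g w' + g w' = 0 := by
      rw [← map_add, show w' + w' = 0 from funext fun p => by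
        show w' p + w' p = 0
        generalize w' p = u; revert u; decide, map_zero]
    exact add_right_cancel (h1.trans h2.symm)
  let X : ModExt cocodeR D :=
    { π := f.toMonoidHom.comp (QuotientGroup.mk' M)
      surj := f.surjective.comp (QuotientGroup.mk'_surjective M)
      ι := fun v => ((g (sec v)).toMul : D)
      ι_add := fun a b => by rw [sec_add, map_add, toMul_add, Subgroup.coe_mul]
      ι_inj := fun a b h => by
        have h1 : g (sec a) = g (sec b) := Additive.toMul.injective (Subtype.ext h)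
        have h0 : g (sec (a + b)) = 0 := by
          rw [sec_add, map_add, h1, ← map_add, ← sec_add, add_self_vec,
            show sec 0 = 0 from by simp [sec], map_zero]
        have h2 := (lam_eq_zero _).2 ((gker _).1 h0)
        refine eq_of_add_zero_vec (funext fun k => ?_)
        rw [← lam_sec (a + b) k, h2]
        rfl
      range_iff := fun e => by
        constructor
        · intro h
          have he : e ∈ M := (QuotientGroup.eq_one_iff e).1 (f.injective (h.trans (map_one f).symm))
          obtain ⟨w, hw⟩ := gsurj (Additive.ofMul ⟨e, he⟩)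
          refine ⟨fun k => lam w (Pi.single k 1), ?_⟩
          rw [hlam _ w (lam_ext fun k => lam_sec _ k), hw]
          rfl
        · rintro ⟨v, rfl⟩
          show f (QuotientGroup.mk' M ((g (sec v)).toMul : D)) = 1
          rw [show QuotientGroup.mk' M ((g (sec v)).toMul : D) = 1 from
            (QuotientGroup.eq_one_iff _).2 (g (sec v)).toMul.2, map_one]
      conj := fun e v => by
        rw [← gconj, hlam _ (sec (cocodeR (f (QuotientGroup.mk e)) v)) (lam_ext fun k => ?_)]
        · rfl
        rw [lam_sec]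
        exact lam_comp _ v k }
  refine ⟨X, ?_⟩
  ext e
  show f (QuotientGroup.mk' M e) = 1 ↔ e ∈ M
  rw [map_eq_one_iff _ f.injective, QuotientGroup.mk'_apply, QuotientGroup.eq_one_iff]

theorem exists_shape {D : Type*} [Group D] [Finite D] (X : ModExt cocodeR D)
    (hX : ∀ H : Subgroup D, H ⊓ X.π.ker = ⊥ → H ⊔ X.π.ker ≠ ⊤) :
    ∃ ℓ : Fin 3 → D, (∀ j, X.π (ℓ j) = gS j) ∧ ∀ a < 128, ∀ j, X.T ℓ a j = CocodeCert.cert.shape a j := by
  obtain ⟨ℓ, hℓ, c, hc⟩ := exists_normal CocodeCert.cert X CocodeCert.ok CocodeCert.actOK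
  obtain rfl | rfl := (by decide : ∀ x : ZMod 2, x = 0 ∨ x = 1) c
  · obtain ⟨H, h1, h2⟩ := X.complement_of_table hℓ fun a ha j => by
      rw [hc a ha j]
      funext k
      exact zero_mul _
    exact absurd h2 (hX H h1)
  · exact ⟨ℓ, hℓ, fun a ha j => by rw [hc a ha j]; funext k; exact one_mul _⟩

end CfsgLib.Sporadic.M23Ext
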