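import Cfsg.Agent.Lib.Sporadic.M23Cocode

/-!
A Sylow 2-subgroup of the Mathieu group of degree 23: three generators and the short-lex normal forms.
-/

set_option autoImplicit false
set_option maxRecDepth 20000

namespace CfsgLib.Sporadic.M23Ext

open Cfsg CfsgLib.SmallGroups.Golay CfsgLib.SmallGroups.M24Group CfsgLib.Sporadic.M23Cocode

/-- Images under generator 0. -/
def sTbl0 : List ℕ := [20, 13, 2, 3, 17, 10, 16, 7, 15, 19, 5, 22, 12, 1, 14, 8, 6, 4, 18, 9, 0, 21, 11, 23]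
/-- Images under the inverse of generator 0. -/
def sTbl0' : List ℕ := [20, 13, 2, 3, 17, 10, 16, 7, 15, 19, 5, 22, 12, 1, 14, 8, 6, 4, 18, 9, 0, 21, 11, 23]
/-- Generator 0. -/
def sGen0 : G23 := ⟨permOf sTbl0 sTbl0' (by decide +kernel) (by decide +kernel), permOf_mem rfl (by decide +kernel)⟩

/-- Images under generator 1. -/
def sTbl1 : List ℕ := [6, 16, 18, 3, 17, 10, 13, 12, 11, 0, 4, 22, 7, 9, 14, 8, 20, 5, 2, 1, 19, 21, 15, 23]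
/-- Images under the inverse of generator 1. -/
def sTbl1' : List ℕ := [9, 19, 18, 3, 10, 17, 0, 12, 15, 13, 5, 8, 7, 6, 14, 22, 1, 4, 2, 20, 16, 21, 11, 23]
/-- Generator 1. -/
def sGen1 : G23 := ⟨permOf sTbl1 sTbl1' (by decide +kernel) (by decide +kernel), permOf_mem rfl (by decide +kernel)⟩

/-- Images under generator 2. -/
def sTbl2 : List ℕ := [1, 8, 12, 14, 19, 16, 10, 7, 11, 17, 5, 0, 2, 20, 3, 13, 6, 4, 18, 9, 22, 21, 15, 23]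
/-- Images under the inverse of generator 2. -/
def sTbl2' : List ℕ := [11, 0, 12, 14, 17, 10, 16, 7, 1, 19, 6, 8, 2, 15, 3, 22, 5, 9, 18, 4, 13, 21, 20, 23]
/-- Generator 2. -/
def sGen2 : G23 := ⟨permOf sTbl2 sTbl2' (by decide +kernel) (by decide +kernel), permOf_mem rfl (by decide +kernel)⟩

/-- The generators. -/
def gS (j : Fin 3) : G23 := if j = 0 then sGen0 else if j = 1 then sGen1 else sGen2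

/-- Their tables. -/
def gSTbl (j : Fin 3) : List ℕ := if j = 0 then sTbl0 else if j = 1 then sTbl1 else sTbl2

/-- The product of a word. -/
def prodS (w : List (Fin 3)) : G23 := (w.map gS).prod

/-- The normal forms. -/
def wdList : List (List (Fin 3)) := [[], [0], [1], [2], [0, 1], [0, 2], [1, 0], [1, 1], [1, 2], [2, 0], [2, 1], [2, 2], [0, 1, 0], [0, 1, 1], [0, 1, 2], [0, 2, 0], [0, 2, 1], [0, 2, 2], [1, 0, 2], [1, 1, 2], [1, 2, 0], [1, 2, 1], [1, 2, 2], [2, 0, 1], [2, 1, 0], [2, 1, 2], [2, 2, 1], [0, 1, 0, 2], [0, 1, 1, 2], [0, 1, 2, 0], [0, 1, 2, 1], [0, 1, 2, 2], [0, 2, 0, 1], [0, 2, 1, 0], [0, 2, 1, 2], [0, 2, 2, 1], [1, 0, 2, 0], [1, 0, 2, 1], [1, 0, 2, 2], [1, 1, 2, 0], [1, 1, 2, 1], [1, 1, 2, 2], [1, 2, 0, 1], [1, 2, 1, 0], [1, 2, 1, 2], [1, 2, 2, 1], [2, 0, 1, 2], [2,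 1, 0, 2], [2, 1, 2, 0], [2, 1, 2, 1], [2, 1, 2, 2], [2, 2, 1, 0], [2, 2, 1, 2], [0, 1, 0, 2, 0], [0, 1, 0, 2, 1], [0, 1, 0, 2, 2], [0, 1, 1, 2, 0], [0, 1, 1, 2, 1], [0, 1, 1, 2, 2], [0, 1, 2, 0, 1], [0, 1, 2, 1, 0], [0, 1, 2, 1, 2], [0, 1, 2, 2, 1], [0, 2, 0, 1, 2], [0, 2, 1, 0, 2], [0, 2, 1, 2, 0], [0, 2, 1, 2, 1], [0, 2, 1, 2, 2], [0, 2, 2, 1, 0], [0, 2, 2, 1, 2], [1, 0, 2, 1, 2], [1, 0, 2, 2, 1], [1, 1, 2, 1, 2], [1, 2, 0, 1, 2], [1, 2, 1, 0, 2], [1, 2, 1, 2, 2], [1, 2, 2, 1, 2], [2, 0, 1, 2, 0], [2, 0, 1, 2, 2], [2, 1, 0, 2, 0], [2, 1, 0, 2, 2], [2, 1, 2, 2, 1], [2, 2, 1, 0, 2], [2, 2, 1, 2, 0], [2, 2, 1, 2, 1], [2, 2, 1, 2, 2], [0, 1, 0, 2, 1, 2], [0, 1, 0, 2, 2, 1], [0, 1, 1, 2, 1, 2], [0, 1, 2, 0, 1, 2], [0, 1, 2, 1, 0, 2], [0, 1, 2, 1, 2, 2], [0, 1, 2, 2, 1, 2], [0, 2, 0, 1,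 2, 0], [0, 2, 0, 1, 2, 2], [0, 2, 1, 0, 2, 0], [0, 2, 1, 0, 2, 2], [0, 2, 1, 2, 2, 1], [0, 2, 2, 1, 0, 2], [0, 2, 2, 1, 2, 0], [0, 2, 2, 1, 2, 1], [0, 2, 2, 1, 2, 2], [1, 0, 2, 1, 2, 0], [1, 0, 2, 1, 2, 1], [1, 1, 2, 1, 2, 2], [1, 2, 0, 1, 2, 0], [1, 2, 0, 1, 2, 2], [1, 2, 1, 0, 2, 0], [1, 2, 1, 0, 2, 2], [1, 2, 2, 1, 2, 0], [1, 2, 2, 1, 2, 2], [2, 0, 1, 2, 2, 1], [2, 1, 2, 2, 1, 2], [2, 2, 1, 0, 2, 0], [2, 2, 1, 0, 2, 2], [0, 1, 0, 2, 1, 2, 0], [0, 1, 0, 2, 1, 2, 1], [0, 1, 1, 2, 1, 2, 2], [0, 1, 2, 0, 1, 2, 0], [0, 1, 2, 0, 1, 2, 2], [0, 1, 2, 1, 0, 2, 0], [0, 1, 2, 1, 0, 2, 2], [0, 1, 2, 2, 1, 2, 0], [0, 1, 2, 2, 1, 2, 2], [0, 2, 0, 1, 2, 2, 1], [0, 2, 1, 2, 2, 1, 2], [0, 2, 2, 1, 0, 2, 0], [0, 2, 2, 1, 0, 2, 2]]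

/-- The normal form with a given number. -/
def wd (a : ℕ) : List (Fin 3) := wdList.getD a []

/-- The transitions. -/
def nxList : List (List ℕ) := [[1, 2, 3], [0, 4, 5], [6, 7, 8], [9, 10, 11], [12, 13, 14], [15, 16, 17], [2, 1, 18], [13, 12, 19], [20, 21, 22], [3, 23, 1], [24, 19, 25], [17, 26, 15], [4, 0, 27], [7, 6, 28], [29, 30, 31], [5, 32, 0], [33, 28, 34], [11, 35, 9], [36, 37, 38], [39, 40, 41], [8, 42, 6], [43, 27, 44], [38, 45, 36], [40, 39, 46], [10, 9, 47], [48, 49, 50], [51, 41, 52], [53, 54, 55], [56, 57, 58], [14, 59, 12], [60, 18, 61], [55, 62, 53], [57, 56, 63], [16, 15, 64], [65, 66, 67], [68, 58, 69], [18, 60, 2], [59, 14, 70], [22, 71, 20], [19, 24, 13], [23, 3, 72], [58, 68, 56], [54, 53, 73], [21, 20, 74], [66, 65, 75], [62, 55, 76], [77, 73, 78], [79, 74,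 80], [25, 70, 24], [61, 72, 60], [80, 81, 79], [26, 17, 82], [83, 84, 85], [27, 43, 4], [42, 8, 86], [31, 87, 29], [28, 33, 7], [32, 5, 88], [41, 51, 39], [37, 36, 89], [30, 29, 90], [49, 48, 91], [45, 38, 92], [93, 89, 94], [95, 90, 96], [34, 86, 33], [44, 88, 43], [96, 97, 95], [35, 11, 98], [99, 100, 101], [102, 103, 100], [87, 31, 97], [103, 102, 104], [105, 47, 106], [107, 46, 108], [108, 52, 107], [109, 50, 110], [46, 107, 40], [104, 111, 103], [47, 105, 10], [50, 109, 48], [111, 104, 112], [113, 91, 114], [52, 108, 51], [106, 98, 105], [114, 110, 113], [115, 116, 84], [71, 22, 81], [116, 115, 117], [118, 64, 119], [120, 63, 121], [121, 69, 120], [122, 67, 123], [63, 120, 57], [117, 124, 116], [64, 118, 16], [67, 122, 65], [124, 117, 125], [126, 75, 127], [69, 121, 68], [119,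 82, 118], [127, 123, 126], [70, 25, 59], [72, 61, 23], [78, 76, 77], [73, 77, 54], [84, 83, 115], [74, 79, 21], [75, 126, 66], [76, 78, 62], [123, 127, 122], [81, 80, 71], [125, 85, 124], [82, 119, 26], [85, 125, 83], [86, 34, 42], [88, 44, 32], [94, 92, 93], [89, 93, 37], [100, 99, 102], [90, 95, 30], [91, 113, 49], [92, 94, 45], [110, 114, 109], [97, 96, 87], [112, 101, 111], [98, 106, 35], [101, 112, 99]]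

/-- The transition by a generator. -/
def nx (a : ℕ) (j : Fin 3) : ℕ := (nxList.getD a []).getD j 0

/-- The permutation tables of the elements. -/
def elList : List (List ℕ) := [[0, 1, 2, 3, 4, 5, 6, 7, 8, 9, 10, 11, 12, 13, 14, 15, 16, 17, 18, 19, 20, 21, 22, 23],
  [20, 13, 2, 3, 17, 10, 16, 7, 15, 19, 5, 22, 12, 1, 14, 8, 6, 4, 18, 9, 0, 21, 11, 23],
  [6, 16, 18, 3, 17, 10, 13, 12, 11, 0, 4, 22, 7, 9, 14, 8, 20, 5, 2, 1, 19, 21, 15, 23],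
  [1, 8, 12, 14, 19, 16, 10, 7, 11, 17, 5, 0, 2, 20, 3, 13, 6, 4, 18, 9, 22, 21, 15, 23],
  [16, 6, 18, 3, 4, 5, 1, 12, 22, 20, 17, 11, 7, 19, 14, 15, 0, 10, 2, 13, 9, 21, 8, 23],
  [13, 15, 12, 14, 9, 6, 5, 7, 22, 4, 10, 20, 2, 0, 3, 1, 16, 17, 18, 19, 11, 21, 8, 23],
  [19, 9, 18, 3, 5, 4, 20, 12, 8, 1, 10, 15, 7, 16, 14, 11, 13, 17, 2, 0, 6, 21, 22, 23],
  [13, 20, 2, 3, 5, 4, 9, 7, 22, 6, 17, 15, 12, 0, 14, 11, 19, 10, 18, 16, 1, 21, 8, 23],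
  [16, 11, 7, 14, 1, 20, 4, 12, 22, 5, 10, 6, 18, 19, 3, 9, 13, 17, 2, 0, 15, 21, 8, 23],
  [22, 20, 12, 14, 4, 5, 6, 7, 13, 9, 16, 15, 2, 8, 3, 11, 10, 19, 18, 17, 1, 21, 0, 23],
  [10, 6, 18, 14, 4, 5, 20, 2, 0, 1, 19, 15, 7, 17, 3, 11, 22, 16, 12, 8, 9, 21, 13, 23],
  [8, 11, 2, 3, 9, 6, 5, 7, 0, 4, 16, 1, 12, 22, 14, 20, 10, 19, 18, 17, 15, 21, 13, 23],
  [9, 19, 18, 3, 10, 17, 0, 12, 15, 13, 5, 8, 7, 6, 14, 22, 1, 4, 2, 20, 16, 21, 11, 23],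
  [1, 0, 2, 3, 10, 17, 19, 7, 11, 16, 4, 8, 12, 20, 14, 22, 9, 5, 18, 6, 13, 21, 15, 23],
  [6, 22, 7, 14, 13, 0, 17, 12, 11, 10, 5, 16, 18, 9, 3, 19, 1, 4, 2, 20, 8, 21, 15, 23],
  [11, 0, 12, 14, 17, 10, 16, 7, 1, 19, 6, 8, 2, 15, 3, 22, 5, 9, 18, 4, 13, 21, 20, 23],
  [5, 16, 18, 14, 17, 10, 0, 2, 20, 13, 9, 8, 7, 4, 3, 22, 11, 6, 12, 15, 19, 21, 1, 23],
  [15, 22, 2, 3, 19, 16, 10, 7, 20, 17, 6, 13, 12, 11, 14, 0, 5, 9, 18, 4, 8, 21, 1, 23],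
  [9, 8, 7, 14, 0, 13, 10, 12, 15, 17, 4, 19, 18, 6, 3, 16, 20, 5, 2, 1, 22, 21, 11, 23],
  [20, 22, 12, 14, 16, 19, 17, 7, 15, 10, 4, 13, 2, 1, 3, 0, 9, 5, 18, 6, 8, 21, 11, 23],
  [15, 19, 7, 14, 17, 10, 13, 12, 9, 0, 20, 8, 18, 11, 3, 22, 4, 1, 2, 5, 16, 21, 6, 23],
  [4, 13, 2, 14, 17, 10, 19, 18, 6, 16, 1, 8, 12, 5, 3, 22, 15, 20, 7, 11, 0, 21, 9, 23],
  [11, 22, 18, 3, 0, 13, 10, 12, 6, 17, 20, 16, 7, 15, 14, 19, 4, 1, 2, 5, 8, 21, 9, 23],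
  [6, 10, 18, 14, 19, 16, 8, 2, 15, 22, 4, 0, 7, 9, 3, 13, 1, 5, 12, 20, 17, 21, 11, 23],
  [9, 17, 18, 14, 16, 19, 22, 2, 11, 8, 5, 13, 7, 6, 3, 0, 20, 4, 12, 1, 10, 21, 15, 23],
  [6, 0, 7, 3, 8, 22, 19, 2, 15, 16, 5, 10, 18, 9, 14, 17, 20, 4, 12, 1, 13, 21, 11, 23],
  [5, 10, 18, 3, 19, 16, 22, 12, 1, 8, 9, 13, 7, 4, 14, 0, 15, 6, 2, 11, 17, 21, 20, 23],
  [19, 15, 7, 14, 20, 1, 5, 12, 8, 4, 17, 9, 18, 16, 3, 6, 0, 10, 2, 13, 11, 21, 22, 23],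
  [0, 11, 12, 14, 6, 9, 4, 7, 8, 5, 17, 1, 2, 13, 3, 20, 19, 10, 18, 16, 15, 21, 22, 23],
  [8, 9, 7, 14, 4, 5, 1, 12, 19, 20, 0, 15, 18, 22, 3, 11, 17, 13, 2, 10, 6, 21, 16, 23],
  [17, 1, 2, 14, 4, 5, 9, 18, 16, 6, 13, 15, 12, 10, 3, 11, 8, 0, 7, 22, 20, 21, 19, 23],
  [22, 11, 18, 3, 20, 1, 5, 12, 16, 4, 0, 6, 7, 8, 14, 9, 17, 13, 2, 10, 15, 21, 19, 23],
  [16, 5, 18, 14, 9, 6, 15, 2, 8, 11, 17, 20, 7, 19, 3, 1, 13, 10, 12, 0, 4, 21, 22, 23],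
  [19, 4, 18, 14, 6, 9, 11, 2, 22, 15, 10, 1, 7, 16, 3, 20, 0, 17, 12, 13, 5, 21, 8, 23],
  [16, 20, 7, 3, 15, 11, 9, 2, 8, 6, 10, 5, 18, 19, 14, 4, 0, 17, 12, 13, 1, 21, 22, 23],
  [10, 5, 18, 3, 9, 6, 11, 12, 13, 15, 19, 1, 7, 17, 14, 20, 8, 16, 2, 22, 4, 21, 0, 23],
  [22, 6, 7, 14, 5, 4, 20, 12, 16, 1, 13, 11, 18, 8, 3, 15, 10, 0, 2, 17, 9, 21, 19, 23],
  [10, 20, 2, 14, 5, 4, 6, 18, 19, 9, 0, 11, 12, 17, 3, 15, 22, 13, 7, 8, 1, 21, 16, 23],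
  [8, 15, 18, 3, 1, 20, 4, 12, 19, 5, 13, 9, 7, 22, 14, 6, 10, 0, 2, 17, 11, 21, 16, 23],
  [8, 1, 12, 14, 5, 4, 9, 7, 0, 6, 19, 11, 2, 22, 3, 15, 17, 16, 18, 10, 20, 21, 13, 23],
  [17, 9, 18, 14, 5, 4, 1, 2, 13, 20, 16, 11, 7, 10, 3, 15, 8, 19, 12, 22, 6, 21, 0, 23],
  [22, 15, 2, 3, 6, 9, 4, 7, 13, 5, 19, 20, 12, 8, 14, 1, 17, 16, 18, 10, 11, 21, 0, 23],
  [13, 4, 2, 14, 1, 20, 11, 18, 8, 15, 17, 6, 12, 0, 3, 9, 16, 10, 7, 19, 5, 21, 22, 23],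
  [0, 5, 2, 14, 20, 1, 15, 18, 22, 11, 10, 9, 12, 13, 3, 6, 19, 17, 7, 16, 4, 21, 8, 23],
  [13, 6, 12, 3, 11, 15, 1, 18, 8, 20, 10, 4, 2, 0, 14, 5, 19, 17, 7, 16, 9, 21, 22, 23],
  [10, 4, 2, 3, 1, 20, 15, 7, 16, 11, 0, 9, 12, 17, 14, 6, 8, 13, 18, 22, 5, 21, 19, 23],
  [10, 15, 7, 3, 20, 1, 4, 2, 0, 5, 16, 6, 18, 17, 14, 9, 8, 19, 12, 22, 11, 21, 13, 23],
  [17, 11, 7, 3, 1, 20, 5, 2, 13, 4, 19, 9, 18, 10, 14, 6, 22, 16, 12, 8, 15, 21, 0, 23],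
  [13, 9, 7, 3, 4, 5, 20, 2, 17, 1, 22, 11, 18, 0, 14, 15, 19, 8, 12, 16, 6, 21, 10, 23],
  [19, 20, 12, 3, 4, 5, 9, 18, 10, 6, 8, 11, 2, 16, 14, 15, 13, 22, 7, 0, 1, 21, 17, 23],
  [0, 15, 18, 14, 1, 20, 5, 2, 10, 4, 22, 6, 7, 13, 3, 9, 19, 8, 12, 16, 11, 21, 17, 23],
  [17, 4, 18, 3, 6, 9, 15, 12, 0, 11, 16, 20, 7, 10, 14, 1, 22, 19, 2, 8, 5, 21, 13, 23],
  [10, 1, 7, 14, 11, 15, 9, 12, 13, 6, 16, 5, 18, 17, 3, 4, 22, 19, 2, 8, 20, 21, 0, 23],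
  [11, 16, 7, 14, 10, 17, 0, 12, 6, 13, 1, 22, 18, 15, 3, 8, 5, 20, 2, 4, 19, 21, 9, 23],
  [5, 0, 2, 14, 10, 17, 16, 18, 9, 19, 20, 22, 12, 4, 3, 8, 11, 1, 7, 15, 13, 21, 6, 23],
  [15, 8, 18, 3, 13, 0, 17, 12, 9, 10, 1, 19, 7, 11, 14, 16, 5, 20, 2, 4, 22, 21, 6, 23],
  [15, 13, 12, 14, 10, 17, 19, 7, 20, 16, 9, 22, 2, 11, 3, 8, 4, 6, 18, 5, 0, 21, 1, 23],
  [4, 19, 18, 14, 10, 17, 13, 2, 1, 0, 6, 22, 7, 5, 3, 8, 15, 9, 12, 11, 16, 21, 20, 23],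
  [11, 8, 2, 3, 16, 19, 17, 7, 1, 10, 9, 0, 12, 15, 14, 13, 4, 6, 18, 5, 22, 21, 20, 23],
  [1, 17, 2, 14, 13, 0, 22, 18, 15, 8, 4, 16, 12, 20, 3, 19, 6, 5, 7, 9, 10, 21, 11, 23],
  [20, 10, 2, 14, 0, 13, 8, 18, 11, 22, 5, 19, 12, 1, 3, 16, 9, 4, 7, 6, 17, 21, 15, 23],
  [1, 16, 12, 3, 22, 8, 13, 18, 15, 0, 5, 17, 2, 20, 14, 10, 9, 4, 7, 6, 19, 21, 11, 23],
  [5, 17, 2, 3, 13, 0, 8, 7, 6, 22, 20, 19, 12, 4, 14, 16, 15, 1, 18, 11, 10, 21, 9, 23],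
  [5, 8, 7, 3, 0, 13, 17, 2, 20, 10, 6, 16, 18, 4, 14, 19, 15, 9, 12, 11, 22, 21, 1, 23],
  [4, 22, 7, 3, 13, 0, 10, 2, 1, 17, 9, 19, 18, 5, 14, 16, 11, 6, 12, 15, 8, 21, 20, 23],
  [1, 19, 7, 3, 17, 10, 0, 2, 4, 13, 11, 22, 18, 20, 14, 8, 9, 15, 12, 6, 16, 21, 5, 23],
  [9, 0, 12, 3, 17, 10, 19, 18, 5, 16, 15, 22, 2, 6, 14, 8, 1, 11, 7, 20, 13, 21, 4, 23],
  [20, 8, 18, 14, 13, 0, 10, 2, 5, 17, 11, 16, 7, 1, 3, 19, 9, 15, 12, 6, 22, 21, 4, 23],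
  [4, 17, 18, 3, 16, 19, 8, 12, 20, 22, 6, 0, 7, 5, 14, 13, 11, 9, 2, 15, 10, 21, 1, 23],
  [5, 13, 7, 14, 22, 8, 19, 12, 1, 16, 6, 10, 18, 4, 3, 17, 11, 9, 2, 15, 0, 21, 20, 23],
  [20, 19, 12, 3, 8, 22, 0, 18, 11, 13, 4, 10, 2, 1, 14, 17, 6, 5, 7, 9, 16, 21, 15, 23],
  [4, 10, 2, 3, 0, 13, 22, 7, 9, 8, 1, 16, 12, 5, 14, 19, 11, 20, 18, 15, 17, 21, 6, 23],
  [9, 13, 7, 3, 22, 8, 16, 2, 11, 19, 4, 17, 18, 6, 14, 10, 1, 5, 12, 20, 0, 21, 15, 23],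
  [4, 8, 12, 3, 19, 16, 17, 18, 6, 10, 20, 13, 2, 5, 14, 0, 11, 1, 7, 15, 22, 21, 9, 23],
  [5, 22, 12, 3, 16, 19, 10, 18, 9, 17, 1, 0, 2, 4, 14, 13, 15, 20, 7, 11, 8, 21, 6, 23],
  [6, 8, 2, 14, 16, 19, 10, 18, 4, 17, 15, 13, 12, 9, 3, 0, 1, 11, 7, 20, 22, 21, 5, 23],
  [4, 16, 12, 14, 22, 8, 0, 7, 9, 13, 20, 10, 2, 5, 3, 17, 15, 1, 18, 11, 19, 21, 6, 23],
  [11, 17, 7, 3, 19, 16, 8, 2, 9, 22, 1, 13, 18, 15, 14, 0, 4, 20, 12, 5, 10, 21, 6, 23],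
  [15, 0, 18, 14, 22, 8, 16, 2, 6, 19, 1, 10, 7, 11, 3, 17, 4, 20, 12, 5, 13, 21, 9, 23],
  [15, 10, 7, 3, 16, 19, 22, 2, 6, 8, 20, 0, 18, 11, 14, 13, 5, 1, 12, 4, 17, 21, 9, 23],
  [11, 13, 18, 14, 8, 22, 19, 2, 9, 16, 20, 17, 7, 15, 3, 10, 5, 1, 12, 4, 0, 21, 6, 23],
  [5, 19, 12, 14, 8, 22, 13, 7, 6, 0, 1, 17, 2, 4, 3, 10, 11, 20, 18, 15, 16, 21, 9, 23],
  [4, 0, 7, 14, 8, 22, 16, 12, 20, 19, 9, 17, 18, 5, 3, 10, 15, 6, 2, 11, 13, 21, 1, 23],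
  [20, 17, 7, 14, 19, 16, 22, 12, 4, 8, 15, 0, 18, 1, 3, 13, 9, 11, 2, 6, 10, 21, 5, 23],
  [9, 22, 2, 14, 19, 16, 17, 18, 5, 10, 11, 0, 12, 6, 3, 13, 20, 15, 7, 1, 8, 21, 4, 23],
  [1, 13, 18, 3, 8, 22, 16, 12, 5, 19, 15, 10, 7, 20, 14, 17, 9, 11, 2, 6, 0, 21, 4, 23],
  [0, 9, 12, 3, 15, 11, 20, 18, 22, 1, 17, 5, 2, 13, 14, 4, 16, 10, 7, 19, 6, 21, 8, 23],
  [17, 5, 2, 3, 20, 1, 11, 7, 19, 15, 13, 6, 12, 10, 14, 9, 22, 0, 18, 8, 4, 21, 16, 23],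
  [19, 1, 7, 3, 11, 15, 6, 2, 22, 9, 17, 4, 18, 16, 14, 5, 13, 10, 12, 0, 20, 21, 8, 23],
  [17, 15, 12, 3, 9, 6, 4, 18, 16, 5, 0, 1, 2, 10, 14, 20, 22, 13, 7, 8, 11, 21, 19, 23],
  [10, 11, 12, 3, 6, 9, 5, 18, 19, 4, 13, 20, 2, 17, 14, 1, 8, 0, 7, 22, 15, 21, 16, 23],
  [16, 15, 2, 14, 6, 9, 5, 18, 17, 4, 8, 1, 12, 19, 3, 20, 13, 22, 7, 0, 11, 21, 10, 23],
  [17, 6, 12, 14, 11, 15, 20, 7, 19, 1, 0, 5, 2, 10, 3, 4, 8, 13, 18, 22, 9, 21, 16, 23],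
  [22, 4, 7, 3, 9, 6, 15, 2, 19, 11, 13, 1, 18, 8, 14, 20, 17, 0, 12, 10, 5, 21, 16, 23],
  [8, 20, 18, 14, 11, 15, 6, 2, 16, 9, 13, 5, 7, 22, 3, 4, 17, 0, 12, 10, 1, 21, 19, 23],
  [8, 5, 7, 3, 6, 9, 11, 2, 16, 15, 0, 20, 18, 22, 14, 1, 10, 13, 12, 17, 4, 21, 19, 23],
  [22, 1, 18, 14, 15, 11, 9, 2, 19, 6, 0, 4, 7, 8, 3, 5, 10, 13, 12, 17, 20, 21, 16, 23],
  [10, 9, 12, 14, 15, 11, 1, 7, 16, 20, 13, 4, 2, 17, 3, 5, 22, 0, 18, 8, 6, 21, 19, 23],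
  [17, 20, 7, 14, 15, 11, 6, 12, 0, 9, 19, 4, 18, 10, 3, 5, 8, 16, 2, 22, 1, 21, 13, 23],
  [0, 4, 7, 14, 9, 6, 11, 12, 17, 15, 8, 20, 18, 13, 3, 1, 19, 22, 2, 16, 5, 21, 10, 23],
  [19, 11, 2, 14, 9, 6, 4, 18, 10, 5, 22, 20, 12, 16, 3, 1, 0, 8, 7, 13, 15, 21, 17, 23],
  [13, 1, 18, 3, 15, 11, 6, 12, 10, 9, 8, 5, 7, 0, 14, 4, 19, 22, 2, 16, 20, 21, 17, 23],
  [16, 1, 12, 3, 5, 4, 6, 18, 17, 9, 22, 15, 2, 19, 14, 11, 0, 8, 7, 13, 20, 21, 10, 23],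
  [0, 6, 7, 3, 5, 4, 1, 2, 10, 20, 8, 15, 18, 13, 14, 11, 16, 22, 12, 19, 9, 21, 17, 23],
  [13, 11, 18, 14, 20, 1, 4, 2, 17, 5, 8, 9, 7, 0, 3, 6, 16, 22, 12, 19, 15, 21, 10, 23],
  [22, 5, 12, 3, 1, 20, 11, 18, 0, 15, 16, 9, 2, 8, 14, 6, 17, 19, 7, 10, 4, 21, 13, 23],
  [8, 6, 2, 14, 15, 11, 20, 18, 13, 1, 16, 4, 12, 22, 3, 5, 17, 19, 7, 10, 9, 21, 0, 23],
  [8, 4, 12, 3, 20, 1, 15, 18, 13, 11, 19, 6, 2, 22, 14, 9, 10, 16, 7, 17, 5, 21, 0, 23],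
  [22, 9, 2, 14, 11, 15, 1, 18, 0, 20, 19, 5, 12, 8, 3, 4, 10, 16, 7, 17, 6, 21, 13, 23],
  [19, 5, 12, 14, 1, 20, 15, 7, 17, 11, 8, 6, 2, 16, 3, 9, 0, 22, 18, 13, 4, 21, 10, 23],
  [16, 9, 2, 3, 11, 15, 20, 7, 10, 1, 8, 4, 12, 19, 14, 5, 0, 22, 18, 13, 6, 21, 17, 23],
  [16, 4, 12, 14, 20, 1, 11, 7, 10, 15, 22, 9, 2, 19, 3, 6, 13, 8, 18, 0, 5, 21, 17, 23],
  [19, 6, 2, 3, 15, 11, 1, 7, 17, 20, 22, 5, 12, 16, 14, 4, 13, 8, 18, 0, 9, 21, 10, 23],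
  [13, 5, 7, 14, 6, 9, 15, 12, 10, 11, 22, 1, 18, 0, 3, 20, 16, 8, 2, 19, 4, 21, 17, 23],
  [0, 20, 18, 3, 11, 15, 9, 12, 17, 6, 22, 4, 7, 13, 14, 5, 16, 8, 2, 19, 1, 21, 10, 23],
  [6, 13, 12, 3, 10, 17, 16, 18, 4, 19, 11, 8, 2, 9, 14, 22, 20, 15, 7, 1, 0, 21, 5, 23],
  [20, 16, 7, 3, 10, 17, 13, 2, 5, 0, 15, 8, 18, 1, 14, 22, 6, 11, 12, 9, 19, 21, 4, 23],
  [1, 22, 18, 14, 0, 13, 17, 2, 4, 10, 15, 19, 7, 20, 3, 16, 6, 11, 12, 9, 8, 21, 5, 23],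
  [11, 10, 12, 3, 13, 0, 22, 18, 20, 8, 6, 19, 2, 15, 14, 16, 4, 9, 7, 5, 17, 21, 1, 23],
  [15, 16, 2, 14, 8, 22, 0, 18, 1, 13, 6, 17, 12, 11, 3, 10, 4, 9, 7, 5, 19, 21, 20, 23],
  [15, 17, 12, 3, 0, 13, 8, 18, 1, 22, 9, 16, 2, 11, 14, 19, 5, 6, 7, 4, 10, 21, 20, 23],
  [11, 19, 2, 14, 22, 8, 13, 18, 20, 0, 9, 10, 12, 15, 3, 17, 5, 6, 7, 4, 16, 21, 1, 23],
  [9, 10, 12, 14, 13, 0, 8, 7, 4, 22, 15, 16, 2, 6, 3, 19, 20, 11, 18, 1, 17, 21, 5, 23],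
  [6, 19, 2, 3, 22, 8, 0, 7, 5, 13, 15, 17, 12, 9, 14, 10, 20, 11, 18, 1, 16, 21, 4, 23],
  [6, 17, 12, 14, 0, 13, 22, 7, 5, 8, 11, 19, 2, 9, 3, 16, 1, 15, 18, 20, 10, 21, 4, 23],
  [9, 16, 2, 3, 8, 22, 13, 7, 4, 0, 11, 10, 12, 6, 14, 17, 1, 15, 18, 20, 19, 21, 5, 23],
  [1, 10, 7, 14, 16, 19, 8, 12, 5, 22, 11, 13, 18, 20, 3, 0, 6, 15, 2, 9, 17, 21, 4, 23],
  [20, 0, 18, 3, 22, 8, 19, 12, 4, 16, 11, 17, 7, 1, 14, 10, 6, 15, 2, 9, 13, 21, 5, 23]]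

/-- The table of an element. -/
def elTbl (a : ℕ) : List ℕ := elList.getD a []

/-- The node reached. -/
def endN : ℕ → List (Fin 3) → ℕ
  | a, [] => a
  | a, l :: w => endN (nx a l) w

/-- The edges met. -/
def pathEdges : ℕ → List (Fin 3) → List (ℕ × Fin 3)
  | _, [] => []
  | a, l :: w => (a, l) :: pathEdges (nx a l) w

theorem gS_tbl : ∀ (j : Fin 3) (p : GolayPt), idx ((gS j : Equiv.Perm GolayPt) p) = (gSTbl j).getD (idx p) 0 := by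
  decide +kernel

theorem el_tbl : ∀ a < 128, ∀ p : GolayPt, idx ((prodS (wd a) : Equiv.Perm GolayPt) p) = (elTbl a).getD (idx p) 0 := by
  decide +kernel

theorem step_tbl : ∀ a < 128, ∀ j : Fin 3, nx a j < 128 ∧
    ∀ i < 24, (elTbl a).getD ((gSTbl j).getD i 0) 0 = (elTbl (nx a j)).getD i 0 := by
  decide +kernel

theorem el_nodup : ((List.range 128).map elTbl).Nodup := by decide +kernel

theorem nodes_step (a : ℕ) (ha : a < 128) (j : Fin 3) :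
    nx a j < 128 ∧ prodS (wd a) * gS j = prodS (wd (nx a j)) := by
  obtain ⟨h1, h2⟩ := step_tbl a ha j
  refine ⟨h1, Subtype.ext (Equiv.ext fun p => idx_injective ?_)⟩
  rw [Subgroup.coe_mul, Equiv.Perm.mul_apply, el_tbl a ha, gS_tbl, el_tbl _ h1]
  exact h2 _ (idx_lt p)

theorem el_length : ∀ a < 128, (elTbl a).length = 24 := by decide +kernel

theorem nodes_inj_pair (a b : ℕ) (ha : a < 128) (hb : b < 128) (h : prodS (wd a) = prodS (wd b)) : a = b := by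
  have e : elTbl a = elTbl b := by
    refine List.ext_getElem (by rw [el_length a ha, el_length b hb]) fun i h1 h2 => ?_
    rw [el_length a ha] at h1
    have ea := el_tbl a ha (pt i)
    have eb := el_tbl b hb (pt i)
    rw [idx_pt h1, List.getD_eq_getElem _ _ (by rw [el_length a ha]; exact h1)] at ea
    rw [idx_pt h1, List.getD_eq_getElem _ _ (by rw [el_length b hb]; exact h1), ← h] at eb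
    exact ea.symm.trans eb
  have ha' : a < ((List.range 128).map elTbl).length := by simpa using ha
  have hb' : b < ((List.range 128).map elTbl).length := by simpa using hb
  exact (el_nodup.getElem_inj_iff (hi := ha') (hj := hb')).1 (by simpa using e)

theorem nodes_inj (a : ℕ) (ha : a < 128) (h : prodS (wd a) = 1) : a = 0 :=
  nodes_inj_pair a 0 ha (by norm_num) h

end CfsgLib.Sporadic.M23Ext
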