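import Mathlib

/-!
Linear forms in finitely many unknown bits, written as bit masks, and vectors of eleven of them.
-/

set_option autoImplicit false

namespace CfsgLib.Sporadic.M23Ext

/-- Vectors of length eleven. -/
abbrev Vec : Type := Fin 11 → ZMod 2

/-- The value of a linear form. -/
def pair (nv m : ℕ) (t : ℕ → ZMod 2) : ZMod 2 := ∑ i ∈ Finset.range nv, if m.testBit i then t i else 0

theorem pair_xor (nv a b : ℕ) (t : ℕ → ZMod 2) : pair nv (a ^^^ b) t = pair nv a t + pair nv b t := by
  rw [pair, pair, pair, ← Finset.sum_add_distrib]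
  refine Finset.sum_congr rfl fun i _ => ?_
  rw [Nat.testBit_xor]
  have h2 : ∀ x : ZMod 2, x + x = 0 := by decide
  cases a.testBit i <;> cases b.testBit i <;> simp [h2]

theorem pair_zero (nv : ℕ) (t : ℕ → ZMod 2) : pair nv 0 t = 0 := by simp [pair]

theorem pair_two_pow {nv i : ℕ} (hi : i < nv) (t : ℕ → ZMod 2) : pair nv (2 ^ i) t = t i := by
  rw [pair, Finset.sum_eq_single i]
  · simp
  · intro j _ hj
    simp [Nat.testBit_two_pow, Ne.symm hj]
  · intro h
    exact absurd (Finset.mem_range.2 hi) h

theorem pair_smul (nv m : ℕ) (c : ZMod 2) (t : ℕ → ZMod 2) : pair nv m (fun i => c * t i) = c * pair nv m t := by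
  simp [pair, Finset.mul_sum]

/-- Symbolic vectors. -/
abbrev Sym : Type := List ℕ

/-- The value of a symbolic vector. -/
def evS (nv : ℕ) (s : Sym) (t : ℕ → ZMod 2) : Vec := fun k => pair nv (s.getD k 0) t

/-- Sum. -/
def symX (a b : Sym) : Sym := (List.range 11).map fun k => a.getD k 0 ^^^ b.getD k 0

/-- Image under a matrix given by its rows. -/
def applyM (m : List ℕ) (s : Sym) : Sym :=
  (List.range 11).map fun r =>
    (List.range 11).foldr (fun c acc => (if (m.getD r 0).testBit c then s.getD c 0 else 0) ^^^ acc) 0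

/-- The linear map of a matrix. -/
def mfun (m : List ℕ) (v : Vec) : Vec := fun r => ∑ c : Fin 11, if (m.getD r 0).testBit c then v c else 0

/-- The vector of unknowns with a given number. -/
def unitS (i : ℕ) : Sym := (List.range 11).map fun k => 2 ^ (11 * i + k)

/-- The zero vector. -/
def zeroS : Sym := List.replicate 11 0

theorem getD_map_range (f : ℕ → ℕ) (k : Fin 11) : ((List.range 11).map f).getD k 0 = f k := by
  simp [List.getD_eq_getElem?_getD]

theorem evS_symX (nv : ℕ) (a b : Sym) (t : ℕ → ZMod 2) : evS nv (symX a b) t = evS nv a t + evS nv b t := by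
  funext k
  simp [evS, symX, getD_map_range, pair_xor]

theorem evS_zeroS (nv : ℕ) (t : ℕ → ZMod 2) : evS nv zeroS t = 0 := by
  funext k
  have h : ∀ k : Fin 11, zeroS.getD k 0 = 0 := by decide
  simp only [evS, h, pair_zero]; rfl

theorem pair_foldr (nv : ℕ) (t : ℕ → ZMod 2) (f : ℕ → ℕ) (l : List ℕ) :
    pair nv (l.foldr (fun c acc => f c ^^^ acc) 0) t = (l.map fun c => pair nv (f c) t).sum := by
  induction l with
  | nil => simp [pair_zero]
  | cons a l ih => simp [pair_xor, ih]

theorem evS_applyM (nv : ℕ) (m : List ℕ) (s : Sym) (t : ℕ → ZMod 2) :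
    evS nv (applyM m s) t = mfun m (evS nv s t) := by
  funext r
  simp only [evS, applyM, mfun, getD_map_range, pair_foldr]
  rw [← Fin.sum_univ_def' (fun c : ℕ => pair nv (if (m.getD r 0).testBit c then s.getD c 0 else 0) t) 11]
  refine Finset.sum_congr rfl fun c _ => ?_
  split_ifs
  · rfl
  · exact pair_zero nv t
where
  Fin.sum_univ_def' (f : ℕ → ZMod 2) (n : ℕ) : ∑ c : Fin n, f c = ((List.range n).map f).sum := by
    rw [Fin.sum_univ_eq_sum_range f n, Finset.sum_eq_multiset_sum, Finset.range_val, Multiset.range,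
      Multiset.map_coe, Multiset.sum_coe]

theorem mfun_add (m : List ℕ) (v w : Vec) : mfun m (v + w) = mfun m v + mfun m w := by
  funext r
  simp only [mfun, Pi.add_apply, ← Finset.sum_add_distrib]
  exact Finset.sum_congr rfl fun c _ => by split_ifs <;> simp

theorem evS_unitS {nv i : ℕ} (h : 11 * i + 10 < nv) (t : ℕ → ZMod 2) :
    evS nv (unitS i) t = fun k : Fin 11 => t (11 * i + k) := by
  funext k
  have := k.2
  simp only [evS, unitS, getD_map_range]
  exact pair_two_pow (by omega) t

/-- Sum of selected forms. -/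
def xorSel (c : ℕ) : List ℕ → ℕ
  | [] => 0
  | e :: l => (if c.testBit 0 then e else 0) ^^^ xorSel (c >>> 1) l

theorem pair_xorSel (nv : ℕ) (t : ℕ → ZMod 2) : ∀ (l : List ℕ), (∀ e ∈ l, pair nv e t = 0) →
    ∀ c, pair nv (xorSel c l) t = 0
  | [], _, _ => pair_zero nv t
  | e :: l, h, c => by
    rw [xorSel, pair_xor, pair_xorSel nv t l (fun x hx => h x (List.mem_cons_of_mem _ hx)), add_zero]
    split_ifs
    · exact h e List.mem_cons_self
    · exact pair_zero nv t

theorem add_self_vec (v : Vec) : v + v = 0 := funext fun k => by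
  show v k + v k = 0
  generalize v k = x
  revert x; decide

theorem eq_of_add_zero_vec {v w : Vec} (h : v + w = 0) : v = w := by
  rw [← add_zero v, ← add_self_vec w, ← add_assoc, h, zero_add]

/-- A vector is the sum of its unit vectors. -/
theorem vec_eq_sum (v : Vec) : v = ∑ i, v i • (Pi.single i (1 : ZMod 2) : Vec) := by
  funext j
  simp [Finset.sum_apply, Pi.single_apply]

theorem additive_eq_mfun {f : Vec → Vec} (hf : ∀ a b, f (a + b) = f a + f b) (m : List ℕ)
    (h : ∀ i r, f (Pi.single i 1) r = mfun m (Pi.single i 1) r) (v : Vec) : f v = mfun m v := by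
  let F := AddMonoidHom.mk' f hf
  let M := AddMonoidHom.mk' (mfun m) (mfun_add m)
  change F v = M v
  rw [vec_eq_sum v, map_sum, map_sum]
  refine Finset.sum_congr rfl fun i _ => ?_
  obtain hc | hc : v i = 0 ∨ v i = 1 := by generalize v i = c; revert c; decide
  · simp [hc]
  · rw [hc, one_smul]
    exact funext (h i)

end CfsgLib.Sporadic.M23Ext
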