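import Cfsg.Agent.Lib.Sporadic.M23Cocode
import Cfsg.Agent.Lib.Sporadic.M23Ext.Sym
import Cfsg.Agent.Lib.Sporadic.M23Ext.SylowData
import Cfsg.Agent.Lib.Sporadic.IndexPoints
import Cfsg.Agent.Lib.Solvable.Gaschutz

/-!
Extensions of the Mathieu group of degree 23 by an eleven-dimensional module, restricted to a Sylow 2-subgroup: the
table of a system of lifts and its linear equations.
-/

set_option autoImplicit false

namespace CfsgLib.Sporadic.M23Ext

open CfsgLib.Sporadic.M23Cocode (G23)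

/-- An extension with prescribed action. -/
structure ModExt (R : G23 → Vec → Vec) (E : Type*) [Group E] where
  /-- The quotient map. -/
  π : E →* G23
  surj : Function.Surjective π
  /-- The kernel. -/
  ι : Vec → E
  ι_add : ∀ a b, ι (a + b) = ι a * ι b
  ι_inj : Function.Injective ι
  range_iff : ∀ e, π e = 1 ↔ ∃ v, ι v = e
  conj : ∀ e v, e * ι v * e⁻¹ = ι (R (π e) v)

/-- Accumulated values along a path. -/
def walkV (T : ℕ → Fin 3 → Vec) : ℕ → List (Fin 3) → Vec
  | _, [] => 0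
  | a, l :: w => T a l + walkV T (nx a l) w

/-- Symbolic version. -/
def walkS (T : ℕ → Fin 3 → Sym) : ℕ → List (Fin 3) → Sym
  | _, [] => zeroS
  | a, l :: w => symX (T a l) (walkS T (nx a l) w)

/-- A word acting. -/
def appV (A : Fin 3 → Vec → Vec) : List (Fin 3) → Vec → Vec
  | [], v => v
  | l :: w, v => A l (appV A w v)

/-- Symbolic version. -/
def appS (ms : Fin 3 → List ℕ) : List (Fin 3) → Sym → Sym
  | [], v => v
  | l :: w, v => applyM (ms l) (appS ms w v)

/-- The derivation of a list of decorated words. -/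
def derV (A : Fin 3 → Vec → Vec) : List (Vec × List (Fin 3)) → Vec
  | [] => 0
  | (x, w) :: l => x + appV A w (derV A l)

/-- Symbolic version. -/
def derS (ms : Fin 3 → List ℕ) : List (Sym × List (Fin 3)) → Sym
  | [] => zeroS
  | (x, w) :: l => symX x (appS ms w (derS ms l))

theorem wd_zero : wd 0 = [] := rfl

theorem endN_lt : ∀ (w : List (Fin 3)) (a : ℕ), a < 128 → endN a w < 128
  | [], _, h => h
  | l :: w, a, h => endN_lt w _ (nodes_step a h l).1

theorem evS_walkS {nv : ℕ} {t : ℕ → ZMod 2} (T : ℕ → Fin 3 → Vec) (S : ℕ → Fin 3 → Sym) :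
    ∀ (w : List (Fin 3)) (a : ℕ), (∀ a' l, (a', l) ∈ pathEdges a w → evS nv (S a' l) t = T a' l) →
      evS nv (walkS S a w) t = walkV T a w
  | [], _, _ => evS_zeroS nv t
  | l :: w, a, h => by
    rw [walkS, evS_symX, walkV, h a l (List.mem_cons_self ..),
      evS_walkS T S w _ fun a' l' hm => h a' l' (List.mem_cons_of_mem _ hm)]

theorem evS_appS {nv : ℕ} {t : ℕ → ZMod 2} {A : Fin 3 → Vec → Vec} {ms : Fin 3 → List ℕ}
    (hA : ∀ l v, A l v = mfun (ms l) v) : ∀ (w : List (Fin 3)) (s : Sym),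
    evS nv (appS ms w s) t = appV A w (evS nv s t)
  | [], _ => rfl
  | l :: w, s => by rw [appS, evS_applyM, evS_appS hA w s, appV, hA]

theorem evS_derS {nv : ℕ} {t : ℕ → ZMod 2} {A : Fin 3 → Vec → Vec} {ms : Fin 3 → List ℕ}
    (hA : ∀ l v, A l v = mfun (ms l) v) : ∀ items : List (Sym × List (Fin 3)),
    evS nv (derS ms items) t = derV A (items.map fun p => (evS nv p.1 t, p.2))
  | [] => evS_zeroS nv t
  | (x, w) :: l => by rw [derS, evS_symX, evS_appS hA, evS_derS hA l, List.map_cons, derV]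

variable {E₀ : Type*} [Group E₀]

/-- The product of a word in the lifts. -/
def evw (ℓ : Fin 3 → E₀) (w : List (Fin 3)) : E₀ := (w.map ℓ).prod

theorem evw_cons (ℓ : Fin 3 → E₀) (l : Fin 3) (w : List (Fin 3)) : evw ℓ (l :: w) = ℓ l * evw ℓ w := by
  simp [evw]

theorem evw_append (ℓ : Fin 3 → E₀) (u w : List (Fin 3)) : evw ℓ (u ++ w) = evw ℓ u * evw ℓ w := by simp [evw]

namespace ModExt

variable {R : G23 → Vec → Vec} {E : Type*} [Group E] (X : ModExt R E)
include X

theorem ι_zero : X.ι 0 = 1 := by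
  have := X.ι_add 0 0
  rwa [add_zero, left_eq_mul] at this

theorem π_ι (v : Vec) : X.π (X.ι v) = 1 := (X.range_iff _).2 ⟨v, rfl⟩

theorem ι_mul_self (v : Vec) : X.ι v * X.ι v = 1 := by rw [← X.ι_add, add_self_vec, X.ι_zero]

theorem R_add (g : G23) (a b : Vec) : R g (a + b) = R g a + R g b := by
  obtain ⟨e, rfl⟩ := X.surj g
  apply X.ι_inj
  rw [X.ι_add, ← X.conj, ← X.conj, ← X.conj, X.ι_add]
  group

theorem R_eq_mfun (g : G23) (m : List ℕ) (h : ∀ i r, R g (Pi.single i 1) r = mfun m (Pi.single i 1) r) (v : Vec) :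
    R g v = mfun m v := additive_eq_mfun (X.R_add g) m h v

theorem mul_ι (e : E) (v : Vec) : e * X.ι v = X.ι (R (X.π e) v) * e := by rw [← X.conj, inv_mul_cancel_right]

/-- The coordinates of an element of the kernel. -/
noncomputable def co (e : E) : Vec :=
  haveI := Classical.propDecidable (∃ v, X.ι v = e)
  if h : ∃ v, X.ι v = e then h.choose else 0

theorem ι_co {e : E} (h : X.π e = 1) : X.ι (X.co e) = e := by
  have h' := (X.range_iff e).1 h
  rw [co, dif_pos h']
  exact h'.choose_spec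

/-- A table entry. -/
noncomputable def T (ℓ : Fin 3 → E) (a : ℕ) (j : Fin 3) : Vec :=
  X.co (evw ℓ (wd a) * ℓ j * (evw ℓ (wd (nx a j)))⁻¹)

variable {ℓ : Fin 3 → E} (hℓ : ∀ j, X.π (ℓ j) = gS j)
include hℓ

theorem π_evw (w : List (Fin 3)) : X.π (evw ℓ w) = prodS w := by
  rw [evw, map_list_prod, List.map_map, prodS]
  congr 1
  exact List.map_congr_left fun l _ => hℓ l

theorem T_spec {a : ℕ} (ha : a < 128) (j : Fin 3) :
    evw ℓ (wd a) * ℓ j = X.ι (X.T ℓ a j) * evw ℓ (wd (nx a j)) := by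
  rw [T, X.ι_co, inv_mul_cancel_right]
  rw [map_mul, map_mul, map_inv, X.π_evw hℓ, X.π_evw hℓ, hℓ, mul_inv_eq_one]
  exact (nodes_step a ha j).2

theorem walk_spec : ∀ (w : List (Fin 3)) (a : ℕ), a < 128 →
    evw ℓ (wd a) * evw ℓ w = X.ι (walkV (X.T ℓ) a w) * evw ℓ (wd (endN a w))
  | [], a, _ => by simp [walkV, endN, X.ι_zero, evw]
  | l :: w, a, ha => by
    rw [evw_cons, ← mul_assoc, X.T_spec hℓ ha, mul_assoc, walk_spec w _ (nodes_step a ha l).1, walkV, endN,
      X.ι_add, mul_assoc]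

theorem walk_spec_zero (w : List (Fin 3)) :
    evw ℓ w = X.ι (walkV (X.T ℓ) 0 w) * evw ℓ (wd (endN 0 w)) := by
  rw [← X.walk_spec hℓ w 0 (by norm_num), wd_zero]
  simp [evw]

theorem conj_word : ∀ (w : List (Fin 3)) (v : Vec),
    evw ℓ w * X.ι v = X.ι (appV (fun l => R (gS l)) w v) * evw ℓ w
  | [], v => by simp [evw, appV]
  | l :: w, v => by
    rw [evw_cons, mul_assoc, conj_word w v, ← mul_assoc, X.mul_ι, hℓ, appV, mul_assoc]

theorem der_spec : ∀ items : List (Vec × List (Fin 3)),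
    (items.map fun p => X.ι p.1 * evw ℓ p.2).prod =
      X.ι (derV (fun l => R (gS l)) items) * evw ℓ (items.flatMap Prod.snd)
  | [] => by simp [derV, X.ι_zero, evw]
  | (x, w) :: l => by
    rw [List.map_cons, List.prod_cons, der_spec l, List.flatMap_cons, derV, X.ι_add, evw_append]
    simp only [mul_assoc]
    congr 1
    rw [← mul_assoc, X.conj_word hℓ, mul_assoc]

theorem T_tree {a : ℕ} (ha : a < 128) {j : Fin 3} (h : wd (nx a j) = wd a ++ [j]) : X.T ℓ a j = 0 := by
  apply X.ι_inj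
  have := X.T_spec hℓ ha j
  rw [h, evw_append, show evw ℓ [j] = ℓ j by simp [evw]] at this
  rw [X.ι_zero]
  exact mul_eq_right.1 this.symm

/-- The recursion of the table along the first letter. -/
theorem T_rec {a a₁ : ℕ} (ha : a < 128) (ha₁ : a₁ < 128) {s j : Fin 3} (hw : wd a = s :: wd a₁)
    (he : endN 0 (s :: wd (nx a₁ j)) = nx a j) :
    X.T ℓ a j = R (gS s) (X.T ℓ a₁ j) + walkV (X.T ℓ) 0 (s :: wd (nx a₁ j)) := by
  apply X.ι_inj
  refine mul_right_cancel (b := evw ℓ (wd (nx a j))) ?_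
  rw [← X.T_spec hℓ ha, X.ι_add, mul_assoc, ← he, ← X.walk_spec_zero hℓ, hw, evw_cons, evw_cons, mul_assoc,
    X.T_spec hℓ ha₁, ← mul_assoc, X.mul_ι, hℓ, mul_assoc]

/-- Equivariance of the table. -/
theorem T_equivariant {a : ℕ} (ha : a < 128) (s j : Fin 3)
    (he : endN 0 (s :: (wd a ++ [j])) = endN 0 (s :: wd (nx a j))) :
    walkV (X.T ℓ) 0 (s :: (wd a ++ [j])) + walkV (X.T ℓ) 0 (s :: wd (nx a j)) + R (gS s) (X.T ℓ a j) = 0 := by
  have h : evw ℓ (s :: (wd a ++ [j])) = X.ι (R (gS s) (X.T ℓ a j)) * evw ℓ (s :: wd (nx a j)) := by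
    rw [evw_cons, evw_append, show evw ℓ [j] = ℓ j by simp [evw], X.T_spec hℓ ha, ← mul_assoc, X.mul_ι, hℓ,
      evw_cons, mul_assoc]
  rw [X.walk_spec_zero hℓ (s :: (wd a ++ [j])), X.walk_spec_zero hℓ (s :: wd (nx a j)), he, ← mul_assoc,
    mul_left_inj, ← X.ι_add] at h
  rw [X.ι_inj h, add_assoc, add_comm (walkV _ _ _) (R _ _), add_self_vec]

/-- The effect of a conjugation on the table. -/
theorem T_fusion (e : E) {n : ℕ} (us vs : Fin n → List (Fin 3)) (τ : Fin n → Vec)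
    (hτ : ∀ x, e * evw ℓ (us x) * e⁻¹ = X.ι (τ x) * evw ℓ (vs x)) (r r' : List (Fin n))
    (hU : endN 0 (r.flatMap us) = endN 0 (r'.flatMap us)) (hW : endN 0 (r.flatMap vs) = endN 0 (r'.flatMap vs)) :
    R (X.π e) (walkV (X.T ℓ) 0 (r.flatMap us) + walkV (X.T ℓ) 0 (r'.flatMap us)) +
      (walkV (X.T ℓ) 0 (r.flatMap vs) + walkV (X.T ℓ) 0 (r'.flatMap vs)) +
      (derV (fun l => R (gS l)) (r.map fun x => (τ x, vs x)) +
        derV (fun l => R (gS l)) (r'.map fun x => (τ x, vs x))) = 0 := by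
  have key : ∀ q : List (Fin n), X.ι (R (X.π e) (walkV (X.T ℓ) 0 (q.flatMap us))) *
      (e * evw ℓ (wd (endN 0 (q.flatMap us))) * e⁻¹) =
      X.ι (derV (fun l => R (gS l)) (q.map fun x => (τ x, vs x)) + walkV (X.T ℓ) 0 (q.flatMap vs)) *
        evw ℓ (wd (endN 0 (q.flatMap vs))) := by
    intro q
    have h1 : e * evw ℓ (q.flatMap us) * e⁻¹ =
        ((q.map fun x => (τ x, vs x)).map fun p => X.ι p.1 * evw ℓ p.2).prod := by
      induction q with
      | nil => simp [evw]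
      | cons x q ih =>
        rw [List.flatMap_cons, evw_append, List.map_cons, List.map_cons, List.prod_cons, ← ih, ← hτ x]
        group
    rw [X.der_spec hℓ, X.walk_spec_zero hℓ (q.flatMap us)] at h1
    rw [X.ι_add, mul_assoc (X.ι _) (X.ι _), ← X.walk_spec_zero hℓ, ← X.conj]
    rw [List.flatMap_map] at h1
    rw [← h1]
    group
  have k1 := key r
  have k2 := key r'
  rw [← hU, ← hW] at k2
  have hinv : ∀ v, (X.ι v)⁻¹ = X.ι v := fun v => inv_eq_of_mul_eq_one_right (X.ι_mul_self v)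
  have aux : ∀ (A A' B B' : Vec) (Y L : E), X.ι A * Y = X.ι B * L → X.ι A' * Y = X.ι B' * L → A + A' = B + B' := by
    intro A A' B B' Y L e1 e2
    have c : ∀ (u u' : Vec) (Z : E), (X.ι u * Z) * (X.ι u' * Z)⁻¹ = X.ι (u + u') := fun u u' Z => by
      rw [mul_inv_rev, mul_assoc, mul_inv_cancel_left, hinv, ← X.ι_add]
    apply X.ι_inj
    rw [← c A A' Y, ← c B B' L, e1, e2]
  have h4 := aux _ _ _ _ _ _ k1 k2
  rw [X.R_add, h4]
  generalize derV _ (r.map _) = d
  generalize derV _ (r'.map _) = d'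
  generalize walkV _ _ _ = p
  generalize walkV _ _ _ = p'
  have h5 := add_self_vec (d + d' + (p + p'))
  rw [← h5]
  abel

omit hℓ in
/-- Changing lifts. -/
theorem T_change (hℓ : ∀ j, X.π (ℓ j) = gS j) (lam : Fin 3 → Vec) {a : ℕ} (ha : a < 128) (j : Fin 3) :
    X.T (fun l => X.ι (lam l) * ℓ l) a j = X.T ℓ a j +
      derV (fun l => R (gS l)) ((wd a ++ [j]).map fun l => (lam l, [l])) +
      derV (fun l => R (gS l)) ((wd (nx a j)).map fun l => (lam l, [l])) := by
  set ℓ' : Fin 3 → E := fun l => X.ι (lam l) * ℓ l with hl'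
  have hℓ' : ∀ l, X.π (ℓ' l) = gS l := fun l => by rw [hl', map_mul, X.π_ι, one_mul, hℓ]
  have hev : ∀ w : List (Fin 3), evw ℓ' w =
      X.ι (derV (fun l => R (gS l)) (w.map fun l => (lam l, [l]))) * evw ℓ w := fun w => by
    have := X.der_spec hℓ (w.map fun l => (lam l, [l]))
    rw [List.flatMap_map, show (w.flatMap fun l => [l]) = w from List.flatMap_singleton' w] at this
    rw [← this, List.map_map]
    refine congrArg List.prod (List.map_congr_left fun l _ => ?_)
    simp [evw, hl']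
  have h1 : evw ℓ' (wd a ++ [j]) = X.ι (X.T ℓ' a j) * evw ℓ' (wd (nx a j)) := by
    rw [evw_append, show evw ℓ' [j] = ℓ' j by simp [evw], X.T_spec hℓ' ha]
  rw [hev, hev, evw_append, show evw ℓ [j] = ℓ j by simp [evw], X.T_spec hℓ ha, ← mul_assoc, ← mul_assoc,
    mul_left_inj, ← X.ι_add, ← X.ι_add] at h1
  have h2 := X.ι_inj h1
  generalize derV _ ((wd a ++ [j]).map _) = d at h2 ⊢
  generalize derV _ ((wd (nx a j)).map _) = d' at h2 ⊢
  rw [add_comm (X.T ℓ a j) d, h2, add_assoc, add_self_vec, add_zero]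

/-- A trivial table gives a complement. -/
theorem complement_of_table [Finite E] (h0 : ∀ a < 128, ∀ j, X.T ℓ a j = 0) :
    ∃ H : Subgroup E, H ⊓ X.π.ker = ⊥ ∧ H ⊔ X.π.ker = ⊤ := by
  classical
  let S := Subgroup.closure (Set.range ℓ)
  have hstep : ∀ a < 128, ∀ j, evw ℓ (wd a) * ℓ j = evw ℓ (wd (nx a j)) := fun a ha j => by
    rw [X.T_spec hℓ ha, h0 a ha j, X.ι_zero, one_mul]
  have hmem : ∀ x ∈ S, ∀ a < 128, ∃ b < 128, evw ℓ (wd a) * x = evw ℓ (wd b) := by
    intro x hx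
    have hx' : x ∈ Submonoid.closure (Set.range ℓ) := by
      rw [← Subgroup.closure_toSubmonoid_of_finite]
      exact hx
    induction hx' using Submonoid.closure_induction with
    | mem y hy =>
      obtain ⟨j, rfl⟩ := hy
      exact fun a ha => ⟨_, (nodes_step a ha j).1, hstep a ha j⟩
    | one => exact fun a ha => ⟨a, ha, mul_one _⟩
    | mul y z hy hz ihy ihz =>
      intro a ha
      have hy' : y ∈ S := by
        have := hy
        rw [← Subgroup.closure_toSubmonoid_of_finite] at this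
        exact this
      have hz' : z ∈ S := by
        have := hz
        rw [← Subgroup.closure_toSubmonoid_of_finite] at this
        exact this
      obtain ⟨b, hb, e1⟩ := ihy hy' a ha
      obtain ⟨c, hc, e2⟩ := ihz hz' b hb
      exact ⟨c, hc, by rw [← mul_assoc, e1, e2]⟩
  have hword : ∀ w, evw ℓ w ∈ S := fun w => list_prod_mem fun x hx => by
    obtain ⟨l, -, rfl⟩ := List.mem_map.1 hx
    exact Subgroup.subset_closure ⟨l, rfl⟩
  have hdisj : S ⊓ X.π.ker = ⊥ := by
    rw [eq_bot_iff]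
    rintro x ⟨hx, hk⟩
    obtain ⟨b, hb, e⟩ := hmem x hx 0 (by norm_num)
    rw [wd_zero, show evw ℓ [] = 1 by simp [evw], one_mul] at e
    have : prodS (wd b) = 1 := by rw [← X.π_evw hℓ, ← e]; exact hk
    rw [nodes_inj b hb this, wd_zero] at e
    simpa [evw] using e
  have hcard : Nat.card (S.map X.π) = 128 := by
    have hinj : Function.Injective fun a : Fin 128 => (⟨prodS (wd a), by
        rw [← X.π_evw hℓ]; exact Subgroup.mem_map_of_mem _ (hword _)⟩ : S.map X.π) := fun a b h =>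
      Fin.ext (nodes_inj_pair a b a.2 b.2 (congrArg Subtype.val h))
    rw [← Nat.card_eq_of_bijective _ ⟨hinj, fun y => ?_⟩, Nat.card_fin]
    obtain ⟨x, hx, he⟩ := y.2
    obtain ⟨b, hb, e⟩ := hmem x hx 0 (by norm_num)
    rw [wd_zero, show evw ℓ [] = 1 by simp [evw], one_mul] at e
    exact ⟨⟨b, hb⟩, Subtype.ext ((X.π_evw hℓ _).symm.trans (e ▸ he))⟩
  have hidx : (X.π.ker ⊔ S).index = 79695 := by
    rw [sup_comm, ← Subgroup.comap_map_eq, Subgroup.index_comap_of_surjective _ X.surj]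
    have := (S.map X.π).card_mul_index
    rw [hcard, IndexPoints.card_M23] at this
    omega
  have hK : Nat.card X.π.ker = 2 ^ 11 := by
    have e : Vec ≃ X.π.ker := Equiv.ofBijective (fun v => ⟨X.ι v, X.π_ι v⟩)
      ⟨fun a b h => X.ι_inj (congrArg Subtype.val h), fun y => by
        obtain ⟨v, hv⟩ := (X.range_iff y).1 y.2
        exact ⟨v, Subtype.ext hv⟩⟩
    rw [← Nat.card_congr e]
    simp
  haveI : IsMulCommutative X.π.ker := ⟨⟨fun a b => by
    obtain ⟨v, hv⟩ := (X.range_iff a).1 a.2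
    obtain ⟨w, hw⟩ := (X.range_iff b).1 b.2
    refine Subtype.ext ?_
    show (a : E) * b = b * a
    rw [← hv, ← hw, ← X.ι_add, ← X.ι_add, add_comm]⟩⟩
  obtain ⟨H, hH⟩ := CfsgLib.Solvable.Gaschutz.exists_complement X.π.ker (X.π.ker ⊔ S) le_sup_left
    (by rw [hK, hidx]; norm_num) S hdisj rfl
  exact ⟨H, by rw [inf_comm]; exact hH.disjoint.eq_bot, by rw [sup_comm]; exact hH.sup_eq_top⟩

end ModExt

end CfsgLib.Sporadic.M23Ext
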