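import Cfsg.Agent.Lib.Sporadic.M23Ext.Check

/-!
Two extensions with the same table over a Sylow 2-subgroup are isomorphic.
-/

set_option autoImplicit false

namespace CfsgLib.Sporadic.M23Ext

open CfsgLib.Sporadic.M23Cocode (G23)

theorem shape_eq_zero {D : Cert} (h : D.extra = 0) (a : ℕ) (j : Fin 3) : D.shape a j = 0 := by
  funext k
  simp [Cert.shape, evS, pair, h]

variable {R : G23 → Vec → Vec} {E E' : Type*} [Group E] [Group E'] (X : ModExt R E) (X' : ModExt R E')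

/-- The fibre product. -/
def fib : Subgroup (E × E') where
  carrier := {p | X.π p.1 = X'.π p.2}
  one_mem' := by simp
  mul_mem' {a b} ha hb := by simp only [Set.mem_setOf_eq, Prod.fst_mul, Prod.snd_mul, map_mul] at *; rw [ha, hb]
  inv_mem' {a} ha := by simp only [Set.mem_setOf_eq, Prod.fst_inv, Prod.snd_inv, map_inv] at *; rw [ha]

/-- The diagonal copy of the module. -/
def diag : Subgroup (fib X X') where
  carrier := {p | ∃ v, (X.ι v, X'.ι v) = (p : E × E')}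
  one_mem' := ⟨0, by simp [X.ι_zero, X'.ι_zero]⟩
  mul_mem' := by
    rintro a b ⟨v, hv⟩ ⟨w, hw⟩
    exact ⟨v + w, by rw [X.ι_add, X'.ι_add, Subgroup.coe_mul, ← hv, ← hw]; rfl⟩
  inv_mem' := by
    rintro a ⟨v, hv⟩
    refine ⟨v, ?_⟩
    rw [Subgroup.coe_inv, ← hv, Prod.inv_mk, inv_eq_of_mul_eq_one_right (X.ι_mul_self v),
      inv_eq_of_mul_eq_one_right (X'.ι_mul_self v)]

theorem diag_normal : (diag X X').Normal := by
  refine ⟨fun n hn g => ?_⟩
  obtain ⟨v, hv⟩ := hn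
  refine ⟨R (X.π g.1.1) v, ?_⟩
  have hg : X.π g.1.1 = X'.π g.1.2 := g.2
  rw [Subgroup.coe_mul, Subgroup.coe_mul, Subgroup.coe_inv, ← hv, ← X.conj]
  rw [hg, ← X'.conj]
  rfl

theorem exists_iso [Finite E] [Finite E'] {ℓ : Fin 3 → E} {ℓ' : Fin 3 → E'} (hℓ : ∀ j, X.π (ℓ j) = gS j)
    (hℓ' : ∀ j, X'.π (ℓ' j) = gS j) (hT : ∀ a < 128, ∀ j, X.T ℓ a j = X'.T ℓ' a j) :
    Nonempty (E ≃* E') := by
  classical
  haveI := diag_normal X X'
  let mk : fib X X' →* fib X X' ⧸ diag X X' := QuotientGroup.mk' _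
  let left : Vec → fib X X' := fun v => ⟨(X.ι v, 1), by show X.π (X.ι v) = X'.π 1; rw [X.π_ι, map_one]⟩
  let q : fib X X' →* G23 := X.π.comp ((MonoidHom.fst E E').comp (fib X X').subtype)
  have hq : diag X X' ≤ q.ker := by
    rintro p ⟨v, hv⟩
    show X.π p.1.1 = 1
    rw [← hv, X.π_ι]
  let πQ := QuotientGroup.lift (diag X X') q hq
  have hmk : ∀ p, πQ (mk p) = X.π p.1.1 := fun p => rfl
  let Y : ModExt R (fib X X' ⧸ diag X X') :=
    { π := πQ
      surj := fun g => by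
        obtain ⟨e, he⟩ := X.surj g
        obtain ⟨e', he'⟩ := X'.surj g
        exact ⟨mk ⟨(e, e'), he.trans he'.symm⟩, he⟩
      ι := fun v => mk (left v)
      ι_add := fun a b => by
        rw [← map_mul]
        refine congrArg mk (Subtype.ext ?_)
        show (X.ι (a + b), (1 : E')) = (X.ι a * X.ι b, 1 * 1)
        rw [X.ι_add, one_mul]
      ι_inj := fun a b h => by
        obtain ⟨v, hv⟩ := QuotientGroup.eq.1 h
        have h2 : X'.ι v = 1 := (congrArg Prod.snd hv).trans (by simp [left])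
        have hv0 : v = 0 := X'.ι_inj (h2.trans X'.ι_zero.symm)
        have h1 : X.ι v = (X.ι a)⁻¹ * X.ι b := congrArg Prod.fst hv
        rw [hv0, X.ι_zero, eq_comm, inv_mul_eq_one] at h1
        exact X.ι_inj h1
      range_iff := fun x => by
        obtain ⟨⟨⟨e, e'⟩, hp⟩, rfl⟩ := QuotientGroup.mk'_surjective _ x
        constructor
        · intro h
          obtain ⟨v, rfl⟩ := (X.range_iff e).1 h
          obtain ⟨w, rfl⟩ := (X'.range_iff e').1 (hp.symm.trans h)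
          refine ⟨v + w, QuotientGroup.eq.2 ⟨w, ?_⟩⟩
          show (X.ι w, X'.ι w) = ((X.ι (v + w))⁻¹ * X.ι v, (1 : E')⁻¹ * X'.ι w)
          rw [inv_one, one_mul, inv_eq_of_mul_eq_one_right (X.ι_mul_self _), ← X.ι_add, add_assoc,
            add_comm w v, ← add_assoc, add_self_vec, zero_add]
        · rintro ⟨v, hv⟩
          rw [← hv]
          exact X.π_ι v
      conj := fun x v => by
        obtain ⟨p, rfl⟩ := QuotientGroup.mk'_surjective _ x
        show mk p * mk (left v) * (mk p)⁻¹ = mk (left (R (πQ (mk p)) v))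
        rw [← map_inv, ← map_mul, ← map_mul, hmk]
        refine congrArg mk (Subtype.ext ?_)
        refine Prod.ext (X.conj _ _) ?_
        show p.1.2 * 1 * p.1.2⁻¹ = 1
        group }
  let lift : Fin 3 → fib X X' := fun j => ⟨(ℓ j, ℓ' j), (hℓ j).trans (hℓ' j).symm⟩
  let ℓQ : Fin 3 → fib X X' ⧸ diag X X' := fun j => mk (lift j)
  have hℓQ : ∀ j, Y.π (ℓQ j) = gS j := hℓ
  have hev : ∀ w, evw ℓQ w = mk (evw lift w) := fun w => by
    rw [evw, evw, map_list_prod, List.map_map]; rfl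
  have hev1 : ∀ w, ((evw lift w : fib X X') : E × E') = (evw ℓ w, evw ℓ' w) := fun w => by
    induction w with
    | nil => rfl
    | cons l w ih => rw [evw_cons, evw_cons, evw_cons, Subgroup.coe_mul, ih]; rfl
  have h0 : ∀ a < 128, ∀ j, Y.T ℓQ a j = 0 := fun a ha j => by
    apply Y.ι_inj
    rw [Y.ι_zero]
    have h := Y.T_spec hℓQ ha j
    have h' : evw ℓQ (wd a) * ℓQ j = evw ℓQ (wd (nx a j)) := by
      rw [hev, hev, ← map_mul]
      symm
      refine QuotientGroup.eq.2 ?_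
      refine ⟨R (X.π (evw ℓ (wd (nx a j)))⁻¹) (X.T ℓ a j), ?_⟩
      rw [Subgroup.coe_mul, Subgroup.coe_inv, Subgroup.coe_mul, hev1, hev1]
      refine Prod.ext ?_ ?_
      · show X.ι _ = (evw ℓ (wd (nx a j)))⁻¹ * (evw ℓ (wd a) * ℓ j)
        rw [X.T_spec hℓ ha, ← X.conj]
        group
      · show X'.ι _ = (evw ℓ' (wd (nx a j)))⁻¹ * (evw ℓ' (wd a) * ℓ' j)
        have hπ : X.π (evw ℓ (wd (nx a j)))⁻¹ = X'.π (evw ℓ' (wd (nx a j)))⁻¹ := by
          rw [map_inv, map_inv, X.π_evw hℓ, X'.π_evw hℓ']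
        rw [X'.T_spec hℓ' ha, hπ, ← X'.conj, hT a ha j]
        group
    rw [h'] at h
    exact mul_eq_right.1 h.symm
  obtain ⟨H, hH1, hH2⟩ := Y.complement_of_table hℓQ h0
  let K : Subgroup (fib X X') := H.comap mk
  have hK : ∀ v, (⟨(X.ι v, X'.ι v), (X.π_ι v).trans (X'.π_ι v).symm⟩ : fib X X') ∈ K := fun v => by
    show mk _ ∈ H
    rw [show mk _ = 1 from (QuotientGroup.eq_one_iff _).2 ⟨v, rfl⟩]
    exact one_mem H
  have hker : ∀ p ∈ K, X.π p.1.1 = 1 → mk p = 1 := fun p hp h => by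
    rw [← Subgroup.mem_bot, ← hH1]
    exact ⟨hp, h⟩
  have bij1 : Function.Bijective (((MonoidHom.fst E E').comp (fib X X').subtype).comp K.subtype) := by
    refine ⟨(injective_iff_map_eq_one _).2 fun p hp => ?_, fun e => ?_⟩
    · obtain ⟨⟨⟨e, e'⟩, hpm⟩, hpK⟩ := p
      obtain rfl : e = 1 := hp
      obtain ⟨v, hv⟩ := (QuotientGroup.eq_one_iff _).1 (hker _ hpK (map_one _))
      have h1 : X.ι v = 1 := congrArg Prod.fst hv
      have h2 : X'.ι v = e' := congrArg Prod.snd hv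
      rw [X.ι_inj (h1.trans X.ι_zero.symm), X'.ι_zero] at h2
      exact Subtype.ext (Subtype.ext (Prod.ext rfl h2.symm))
    · obtain ⟨e₀, he₀⟩ := X'.surj (X.π e)
      let p : fib X X' := ⟨(e, e₀), he₀.symm⟩
      obtain ⟨h, hh, n, hn, hhn⟩ := Subgroup.mem_sup_of_normal_right.1
        (show mk p ∈ H ⊔ Y.π.ker from hH2 ▸ Subgroup.mem_top _)
      obtain ⟨v, hv⟩ := (Y.range_iff n).1 hn
      have hpK : p * left v ∈ K := by
        show mk (p * left v) ∈ H
        rw [map_mul, ← hhn, ← hv, mul_assoc]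
        show h * (Y.ι v * Y.ι v) ∈ H
        rwa [Y.ι_mul_self, mul_one]
      refine ⟨⟨_, mul_mem hpK (hK v)⟩, ?_⟩
      show e * X.ι v * X.ι v = e
      rw [mul_assoc, X.ι_mul_self, mul_one]
  have bij2 : Function.Bijective (((MonoidHom.snd E E').comp (fib X X').subtype).comp K.subtype) := by
    refine ⟨(injective_iff_map_eq_one _).2 fun p hp => ?_, fun e' => ?_⟩
    · obtain ⟨⟨⟨e, e''⟩, hpm⟩, hpK⟩ := p
      obtain rfl : e'' = 1 := hp
      obtain ⟨v, hv⟩ := (QuotientGroup.eq_one_iff _).1 (hker _ hpK (hpm.trans (map_one _)))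
      have h2 : X'.ι v = 1 := congrArg Prod.snd hv
      have h1 : X.ι v = e := congrArg Prod.fst hv
      rw [X'.ι_inj (h2.trans X'.ι_zero.symm), X.ι_zero] at h1
      exact Subtype.ext (Subtype.ext (Prod.ext h1.symm rfl))
    · obtain ⟨e₀, he₀⟩ := X.surj (X'.π e')
      let p : fib X X' := ⟨(e₀, e'), he₀⟩
      obtain ⟨h, hh, n, hn, hhn⟩ := Subgroup.mem_sup_of_normal_right.1
        (show mk p ∈ H ⊔ Y.π.ker from hH2 ▸ Subgroup.mem_top _)
      obtain ⟨v, hv⟩ := (Y.range_iff n).1 hn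
      refine ⟨⟨p * left v, ?_⟩, ?_⟩
      · show mk (p * left v) ∈ H
        rw [map_mul, ← hhn, ← hv, mul_assoc]
        show h * (Y.ι v * Y.ι v) ∈ H
        rwa [Y.ι_mul_self, mul_one]
      · show e' * 1 = e'
        rw [mul_one]
  exact ⟨(MulEquiv.ofBijective _ bij1).symm.trans (MulEquiv.ofBijective _ bij2)⟩

end CfsgLib.Sporadic.M23Ext
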